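import Cfsg.Agent.Lib.DegreePSubTwo.InvolutionCentralizer
import Cfsg.Agent.Lib.BrauerPrime.Recognition
import Cfsg.Agent.Lib.Classical.LinearCard
import Cfsg.Agent.Lib.Compute.SL2Mult
import Cfsg.Agent.S1230

/-!
# Perfect groups with a faithful character of degree `p - 2`
-/

set_option autoImplicit false
set_option linter.unusedSectionVars false
set_option linter.style.haveILetI false

namespace Cfsg.Agent.Lib.DegreePSubTwo

open Cfsg Cfsg.Agent.Lib.Characters Cfsg.Agent.Lib.Blocks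
open scoped ComplexConjugate

universe u

variable {G : Type u} [Group G] [Fintype G] {p : ℕ} [hp : Fact p.Prime]
  {χ : IrrCharacter G} {P : Subgroup G}

/-- The special linear group of degree two along a field isomorphism. -/
noncomputable def slEquiv {A B : Type*} [CommRing A] [CommRing B] (f : A ≃+* B) :
    Matrix.SpecialLinearGroup (Fin 2) A ≃* Matrix.SpecialLinearGroup (Fin 2) B where
  toFun := Matrix.SpecialLinearGroup.map f.toRingHom
  invFun := Matrix.SpecialLinearGroup.map f.symm.toRingHom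
  left_inv a := by ext i j; simp
  right_inv a := by ext i j; simp
  map_mul' := map_mul _

theorem orderOf_dvd_two_of_two_group {b : ℕ} (SD : SquareData p χ b) {R : Subgroup G}
    (hR : IsPGroup 2 R) {x : G} (hx : x ∈ R) : x ^ 2 = 1 := by
  obtain ⟨n, hn⟩ := IsPGroup.iff_orderOf.1 hR ⟨x, hx⟩
  rw [Subgroup.orderOf_mk] at hn
  rcases Nat.lt_or_ge n 2 with h | h
  · exact orderOf_dvd_iff_pow_eq_one.1 (hn ▸ (pow_dvd_pow 2 (by omega : n ≤ 1)).trans (pow_one 2).dvd)
  · refine absurd ?_ (SD.not_four (x ^ 2 ^ (n - 2)))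
    rw [orderOf_pow' x (by positivity), hn, Nat.gcd_eq_right (pow_dvd_pow 2 (Nat.sub_le n 2)),
      Nat.pow_div (Nat.sub_le n 2) (by norm_num), show n - (n - 2) = 2 by omega]

/-- A perfect group with a faithful character of degree `p - 2` and a non-central subgroup of
order `p` is `SL(2, p - 1)`. -/
theorem iso_sl (hperf : commutator G = ⊤) (H : Setting p χ P) :
    Subgroup.center G = ⊥ ∧ ∃ (a : ℕ) (F : Type) (_ : Field F) (_ : Fintype F),
      p = 2 ^ a + 1 ∧ Fintype.card F = 2 ^ a ∧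
      Nonempty (G ≃* Matrix.SpecialLinearGroup (Fin 2) F) := by
  classical
  haveI : NeZero p := ⟨hp.out.ne_zero⟩
  haveI : Fact (Nat.Prime 2) := ⟨Nat.prime_two⟩
  obtain ⟨u, t, k, D⟩ := H.exists_data
  have h5 := D.five
  have hodd := D.center_odd hperf
  obtain ⟨b, hb4, hcop, hsq⟩ := D.exists_square hperf
  have hd : charDegree (χ : G → ℂ) = p - 2 := by have := D.deg; omega
  have SD : SquareData p χ b :=
    ⟨h5, Nat.odd_iff.1 (hp.out.odd_of_ne_two (by omega)), by rw [← charDegree_eq, hd], D.faith, hodd,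
      hb4, fun z g hz h => D.regular_of_commute hodd hz h, hcop, hsq⟩
  -- elements of the centralizer of `P` have odd order
  have hCodd : ∀ c ∈ Subgroup.centralizer (P : Set G), Odd (orderOf c) := by
    intro c hc
    obtain ⟨j, w, hw, rfl⟩ := D.cent c hc
    refine Odd.of_dvd_nat (n := orderOf (upow u j) * orderOf w) ?_
      (Commute.orderOf_mul_dvd_mul_orderOf (Subgroup.mem_center_iff.1 hw (upow u j)))
    refine Odd.mul (Odd.of_dvd_nat (n := p) (hp.out.odd_of_ne_two (by omega)) ?_) (hodd w hw)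
    exact (Subgroup.orderOf_dvd_natCard _ (upow_mem D.mem j)).trans D.card_P.dvd
  have hui : u ≠ u⁻¹ := by
    intro h
    have h2 : u ^ 2 = 1 := by rw [pow_two]; exact mul_eq_one_iff_eq_inv.2 h
    have := Nat.le_of_dvd (by norm_num) (D.order_u ▸ orderOf_dvd_of_pow_eq_one h2)
    omega
  -- an involution inverting `u`
  have ht2 : t ^ 2 ∈ Subgroup.centralizer (P : Set G) := by
    rw [← centralizer_eq_of_prime P D.card_P D.mem D.ne_one]
    refine Subgroup.mem_centralizer_singleton_iff.2 ?_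
    rw [← mul_inv_eq_iff_eq_mul]
    calc t ^ 2 * u * (t ^ 2)⁻¹ = t * (t * u * t⁻¹) * t⁻¹ := by simp [pow_two, mul_assoc]
      _ = t * u⁻¹ * t⁻¹ := by rw [D.conj_u]
      _ = (t * u * t⁻¹)⁻¹ := by group
      _ = u := by rw [D.conj_u, inv_inv]
  have hteven : 2 ∣ orderOf t := by
    by_contra h
    obtain ⟨q, hq⟩ := (Nat.odd_iff.2 (by omega : orderOf t % 2 = 1))
    have ht : t ∈ Subgroup.centralizer (P : Set G) := by
      have h1 : (t ^ 2) ^ (q + 1) = t := by
        rw [← pow_mul, show 2 * (q + 1) = orderOf t + 1 by omega, pow_succ, pow_orderOf_eq_one, one_mul]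
      exact h1 ▸ pow_mem ht2 _
    refine hui ?_
    have h2 := D.conj_u
    rwa [← Subgroup.mem_centralizer_iff.1 ht u D.mem, mul_inv_cancel_right] at h2
  obtain ⟨z, hz, hzu⟩ : ∃ z : G, orderOf z = 2 ∧ z * u * z⁻¹ = u⁻¹ := by
    have hm : Odd (orderOf (t ^ 2)) := hCodd _ ht2
    rw [orderOf_pow' t (by norm_num), Nat.gcd_eq_right hteven] at hm
    obtain ⟨m, hm'⟩ := hteven
    rw [hm', Nat.mul_div_cancel_left _ (by norm_num : 0 < 2)] at hm
    obtain ⟨q, hq⟩ := hm
    refine ⟨t ^ m, ?_, ?_⟩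
    · rw [orderOf_pow' t (by omega), hm', Nat.gcd_eq_right (dvd_mul_left m 2),
        Nat.mul_div_cancel _ (by omega)]
    · have hc := Subgroup.mem_centralizer_iff.1 (pow_mem ht2 q) u D.mem
      rw [hq, pow_succ', pow_mul, show t * (t ^ 2) ^ q * u * (t * (t ^ 2) ^ q)⁻¹ =
        t * ((t ^ 2) ^ q * u * ((t ^ 2) ^ q)⁻¹) * t⁻¹ by group, ← hc, mul_inv_cancel_right]
      exact D.conj_u
  have hzZ : z ∉ Subgroup.center G := fun h => by
    have := hodd z h
    rw [hz] at this
    exact absurd this (by decide)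
  -- the quotient
  set Z := Subgroup.center G with hZdef
  let π := QuotientGroup.mk' Z
  have hπs : Function.Surjective π := QuotientGroup.mk'_surjective Z
  have hker : ∀ g, π g = 1 ↔ g ∈ Z := fun g => QuotientGroup.eq_one_iff g
  haveI : Fintype (G ⧸ Z) := Fintype.ofFinite _
  have hperf' : commutator (G ⧸ Z) = ⊤ := by
    rw [commutator_def, ← Subgroup.map_top_of_surjective π hπs, ← Subgroup.map_commutator,
      ← commutator_def, hperf]
  have hπu : π u ≠ 1 := fun h => D.not_central fun x hx => by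
    obtain ⟨i, rfl⟩ := exists_upow_eq D.card_P D.mem D.ne_one hx
    exact pow_mem ((hker u).1 h) _
  have hπuo : orderOf (π u) = p := orderOf_eq_prime
    (by rw [← map_pow, ← D.order_u, pow_orderOf_eq_one, map_one]) hπu
  have hlift : ∀ x' : G ⧸ Z, orderOf x' = 2 → ∃ y : G, orderOf y = 2 ∧ π y = x' := by
    intro x' hx'
    obtain ⟨x, rfl⟩ := hπs x'
    have hxZ : x ∉ Z := fun h => by
      rw [(hker x).2 h, orderOf_one] at hx'
      exact absurd hx' (by norm_num)
    have hx2 : x ^ 2 ∈ Z := (hker _).1 (by rw [map_pow, ← hx', pow_orderOf_eq_one])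
    obtain ⟨q, hq⟩ := hodd _ hx2
    refine ⟨x * (x ^ 2) ^ q, ?_, by rw [map_mul, (hker _).2 (pow_mem hx2 q), mul_one]⟩
    refine orderOf_eq_prime ?_ fun h => hxZ ?_
    · rw [← pow_mul, ← pow_succ', ← pow_mul, mul_comm (2 * q + 1) 2, pow_mul x 2, ← hq,
        pow_orderOf_eq_one]
    · rw [mul_eq_one_iff_eq_inv.1 h]
      exact inv_mem (pow_mem hx2 q)
  have hexp : ∀ x' : G ⧸ Z, orderOf x' = 2 → ∀ c' ∈ Subgroup.centralizer ({x'} : Set (G ⧸ Z)),
      c' ^ 2 = 1 := by
    intro x' hx' c' hc'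
    obtain ⟨y, hy, rfl⟩ := hlift x' hx'
    obtain ⟨c, rfl⟩ := hπs c'
    rw [← map_pow, hker]
    refine SD.sq_mem_center hy ?_
    have hw : c * y * c⁻¹ * y⁻¹ ∈ Z := by
      rw [← hker, map_mul, map_mul, map_mul, map_inv, map_inv,
        Subgroup.mem_centralizer_singleton_iff.1 hc', mul_inv_cancel_right, mul_inv_cancel]
    set w := c * y * c⁻¹ * y⁻¹ with hwdef
    have hy2 : y * y = 1 := by rw [← pow_two, ← hy, pow_orderOf_eq_one]
    have h1 : c * y * c⁻¹ = w * y := by rw [hwdef, inv_mul_cancel_right]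
    have h2 : w ^ 2 = 1 := by
      have h3 : (c * y * c⁻¹) * (c * y * c⁻¹) = 1 := by
        rw [show (c * y * c⁻¹) * (c * y * c⁻¹) = c * (y * y) * c⁻¹ by group, hy2, mul_one, mul_inv_cancel]
      rw [h1, mul_assoc, ← mul_assoc y, Subgroup.mem_center_iff.1 hw y, mul_assoc w y, hy2,
        mul_one] at h3
      rw [pow_two]; exact h3
    have hw1 : w = 1 := by
      rw [← orderOf_eq_one_iff]
      rcases (Nat.dvd_prime Nat.prime_two).1 (orderOf_dvd_of_pow_eq_one h2) with h | h
      · exact h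
      · have := hodd w hw
        rw [h] at this
        exact absurd this (by decide)
    rw [hw1, one_mul, mul_inv_eq_iff_eq_mul] at h1
    exact h1.symm
  have hC : ∀ x' : G ⧸ Z, orderOf x' = 2 →
      IsMulCommutative (Subgroup.centralizer ({x'} : Set (G ⧸ Z))) ∧
        ∀ c ∈ Subgroup.centralizer ({x'} : Set (G ⧸ Z)), c ^ 2 = 1 := by
    intro x' hx'
    refine ⟨⟨⟨fun a c => Subtype.ext ?_⟩⟩, hexp x' hx'⟩
    have e : ∀ g ∈ Subgroup.centralizer ({x'} : Set (G ⧸ Z)), g⁻¹ = g := fun g hg =>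
      inv_eq_of_mul_eq_one_right (by rw [← pow_two]; exact hexp x' hx' g hg)
    rw [Subgroup.coe_mul, Subgroup.coe_mul, ← e _ (mul_mem a.2 c.2), _root_.mul_inv_rev, e _ a.2, e _ c.2]
  -- a Sylow 2-subgroup
  have hzg : IsPGroup 2 (Subgroup.zpowers z) :=
    IsPGroup.of_card (n := 1) (by rw [Nat.card_zpowers, hz, pow_one])
  obtain ⟨R, hR⟩ := hzg.exists_le_sylow
  have hzR : z ∈ (R : Subgroup G) := hR (Subgroup.mem_zpowers z)
  let T := Sylow.mapSurjective hπs R
  have hT : (T : Subgroup (G ⧸ Z)) = (R : Subgroup G).map π := Sylow.coe_mapSurjective _ R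
  set q := Nat.card T with hqdef
  have hq2 : ¬ 2 ∣ Nat.card Z := by
    intro h
    obtain ⟨w, hw⟩ := exists_prime_orderOf_dvd_card' (G := Z) 2 h
    have h2 := hodd _ w.2
    rw [Subgroup.orderOf_coe, hw] at h2
    exact absurd h2 (by decide)
  have hRq : Nat.card R = q := by
    rw [hqdef, Sylow.card_eq_multiplicity, Sylow.card_eq_multiplicity, Z.card_eq_card_quotient_mul_card_subgroup,
      Nat.factorization_mul Nat.card_pos.ne' Nat.card_pos.ne', Finsupp.add_apply,
      Nat.factorization_eq_zero_of_not_dvd hq2, add_zero]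
  have hqp : q ∣ p - 1 := by
    haveI := Fintype.ofFinite (R : Subgroup G)
    obtain ⟨m, hm⟩ := IsCharacter.exists_classInner_nat
      (IsCharacter.restrict (irr_isCharacter χ) (R : Subgroup G)) (isCharacter_one (G := (R : Subgroup G)))
    have hval : ∀ x : (R : Subgroup G), (χ : G → ℂ) (x : G) =
        (if x = 1 then ((p : ℂ) - 1) else 0) - 1 := by
      intro x
      split_ifs with hx
      · rw [hx, OneMemClass.coe_one, ← charDegree_eq, hd, Nat.cast_sub (by omega : 2 ≤ p)]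
        push_cast; ring
      · rw [zero_sub]
        refine SD.invol (orderOf_eq_prime (orderOf_dvd_two_of_two_group SD R.isPGroup' x.2) ?_)
        exact fun h => hx (Subtype.ext h)
    rw [classInner, Finset.sum_congr rfl fun x _ => show _ * conj (1 : ℂ) = _ by
      rw [map_one, mul_one, hval x], Finset.sum_sub_distrib, Finset.sum_ite_eq',
      if_pos (Finset.mem_univ _), Finset.sum_const, Finset.card_univ, nsmul_one,
      ← Nat.card_eq_fintype_card, show Nat.card (R : Subgroup G) = q from hRq] at hm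
    have hq0 : (q : ℂ) ≠ 0 := Nat.cast_ne_zero.2 Nat.card_pos.ne'
    rw [inv_mul_eq_iff_eq_mul₀ hq0] at hm
    have h2 : ((p - 1 : ℕ) : ℂ) = ((q * (m + 1) : ℕ) : ℂ) := by
      rw [Nat.cast_sub (by omega : 1 ≤ p)]; push_cast; linear_combination hm
    exact ⟨m + 1, Nat.cast_injective h2⟩
  have hπz : π z ∈ (T : Subgroup (G ⧸ Z)) := hT ▸ Subgroup.mem_map_of_mem π hzR
  have hπz1 : π z ≠ 1 := fun h => hzZ ((hker z).1 h)
  have hTexp : ∀ x ∈ (T : Subgroup (G ⧸ Z)), x ^ 2 = 1 := by
    intro x hx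
    rw [hT] at hx
    obtain ⟨x, hx', rfl⟩ := Subgroup.mem_map.1 hx
    rw [← map_pow, orderOf_dvd_two_of_two_group SD R.isPGroup' hx', map_one]
  have hnc : ¬ IsCyclic (T : Subgroup (G ⧸ Z)) := by
    intro hcyc
    obtain ⟨g, hg⟩ := hcyc.exists_generator
    have hgo : orderOf g = q := orderOf_eq_card_of_forall_mem_zpowers hg
    have hq : q ∣ 2 := hgo ▸ orderOf_dvd_of_pow_eq_one (Subtype.ext (by simpa using hTexp g g.2))
    have hzo : orderOf (π z) = 2 := orderOf_eq_prime (hTexp _ hπz) hπz1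
    have hq' : q = 2 :=
      Nat.dvd_antisymm hq (hzo ▸ Subgroup.orderOf_dvd_natCard _ hπz)
    refine BrauerPrime.not_normalizer_le_centralizer hperf' T hq' fun g hg => ?_
    refine Subgroup.mem_centralizer_iff.2 fun a ha => ?_
    by_cases ha1 : a = 1
    · rw [ha1, one_mul, mul_one]
    have hga : g * a * g⁻¹ ∈ (T : Subgroup (G ⧸ Z)) := (Subgroup.mem_normalizer_iff.1 hg a).1 ha
    obtain ⟨e, f, hef, huniv⟩ := Nat.card_eq_two_iff.1 hq'
    have hmem : ∀ x : (T : Subgroup (G ⧸ Z)), x ≠ 1 → x = ⟨a, ha⟩ := by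
      intro x hx
      have h3 := Nat.card_eq_two_iff' (1 : (T : Subgroup (G ⧸ Z))) |>.1 hq'
      exact h3.unique hx (fun h => ha1 (congrArg Subtype.val h))
    have := congrArg Subtype.val (hmem ⟨_, hga⟩ fun h => ha1 (by
      have h' := congrArg Subtype.val h
      simpa using h'))
    exact (mul_inv_eq_iff_eq_mul.1 this).symm
  have hnn : ¬ (T : Subgroup (G ⧸ Z)).Normal := by
    intro hn
    have h1 : π u * π z * (π u)⁻¹ * (π z)⁻¹ ∈ (T : Subgroup (G ⧸ Z)) :=
      mul_mem (hn.conj_mem _ hπz _) (inv_mem hπz)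
    rw [← map_inv, ← map_inv, ← map_mul, ← map_mul, ← map_mul,
      show u * z * u⁻¹ * z⁻¹ = u * (z * u * z⁻¹)⁻¹ by group, hzu, inv_inv] at h1
    have h2 := hTexp _ h1
    rw [← pow_two, map_pow, ← pow_mul] at h2
    have h3 := Nat.le_of_dvd (by norm_num) (hπuo ▸ orderOf_dvd_of_pow_eq_one h2)
    omega
  obtain ⟨F, i1, i2, hF, ⟨e⟩⟩ := S1230.result T hnc hnn hC
  letI := i1
  letI := i2
  obtain ⟨a, ha⟩ := T.isPGroup'.exists_card_eq
  haveI : CharP F 2 := by
    obtain ⟨c, hc⟩ := CharP.exists F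
    haveI := hc
    obtain ⟨m, hcp, hm⟩ := FiniteField.card F c
    rw [hF, ha] at hm
    have h2 : c ∣ 2 ^ a := hm ▸ dvd_pow_self c m.2.ne'
    rw [(Nat.prime_dvd_prime_iff_eq hcp Nat.prime_two).1 (hcp.dvd_of_dvd_pow h2)] at hc
    exact hc
  obtain ⟨σ⟩ := BrauerPrime.nonempty_sl_equiv_psl F
  have hFq : Fintype.card F = q := hF
  have hqlt : q ≤ p - 1 := Nat.le_of_dvd (by omega) hqp
  have hq0 : 0 < q := Nat.card_pos
  have hpq : p = q + 1 := by
    have hcard : p ∣ q * (q ^ 2 - 1) := by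
      rw [← hFq, ← Classical.card_SL2, ← Nat.card_congr (e.trans σ).toEquiv, ← hπuo]
      exact orderOf_dvd_natCard _
    rw [show q ^ 2 - 1 = (q + 1) * (q - 1) from by rw [← Nat.sq_sub_sq, one_pow]] at hcard
    rcases hp.out.dvd_mul.1 hcard with h | h
    · have := Nat.le_of_dvd hq0 h; omega
    rcases hp.out.dvd_mul.1 h with h | h
    · have := Nat.le_of_dvd (by omega) h; omega
    · rcases Nat.eq_zero_or_pos (q - 1) with h' | h'
      · have h1 : q = 1 := by omega
        haveI : Subsingleton (T : Subgroup (G ⧸ Z)) := (Nat.card_eq_one_iff_unique.1 h1).1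
        exact absurd (congrArg Subtype.val (Subsingleton.elim (⟨π z, hπz⟩ : (T : Subgroup (G ⧸ Z))) 1)) hπz1
      · have := Nat.le_of_dvd h' h; omega
  have h9 : Fintype.card F ≠ 9 := by
    intro h
    have h2 : q = 9 := hFq ▸ h
    rw [hpq, h2] at hqp
    have hp' := hp.out
    rw [hpq, h2] at hp'
    exact absurd hp' (by norm_num)
  have h4 : Fintype.card F ≠ 4 := by
    intro h
    rw [hFq] at h
    omega
  -- the centre is trivial
  let eU : (G ⧸ Z) ≃* Matrix.SpecialLinearGroup (Fin 2) (ULift.{u} F) :=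
    (e.trans σ).trans (slEquiv (ULift.ringEquiv (R := F)).symm)
  let τ : G →* Matrix.SpecialLinearGroup (Fin 2) (ULift.{u} F) := eU.toMonoidHom.comp π
  have hτker : τ.ker = Z := by
    ext g
    rw [MonoidHom.mem_ker, MonoidHom.comp_apply, MulEquiv.coe_toMonoidHom, map_eq_one_iff eU eU.injective, hker]
  have hstem : IsStemExtension τ := ⟨eU.surjective.comp hπs, hτker.le, by rw [hperf]; exact le_top⟩
  haveI : Fintype (ULift.{u} F) := Fintype.ofFinite _
  have hcU : Fintype.card (ULift.{u} F) = Fintype.card F := Fintype.card_congr Equiv.ulift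
  obtain ⟨-, hmult⟩ := Compute.SL2.multiplier_trivial (F := ULift.{u} F) (by rw [hcU]; exact h4)
    (by rw [hcU]; exact h9)
  obtain ⟨g', hg'⟩ := hmult G τ hstem
  have hZ : Z = ⊥ := by
    rw [← hτker, eq_bot_iff]
    intro x hx
    obtain ⟨y, hy⟩ := hg' ⟨x, hx⟩
    rw [Subsingleton.elim y 1, map_one] at hy
    exact Subgroup.mem_bot.2 (congrArg Subtype.val hy).symm
  refine ⟨hZ, a, F, i1, i2, ?_, hF.trans ha, ?_⟩
  · rw [hpq, hqdef, ha]
  · exact ⟨(((QuotientGroup.quotientMulEquivOfEq hZ).trans QuotientGroup.quotientBot).symm).trans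
      (e.trans σ)⟩

end Cfsg.Agent.Lib.DegreePSubTwo
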