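import Cfsg.Agent.Lib.Characters.FrobeniusSchur

/-!
# The alternating square of a character
-/

set_option autoImplicit false
set_option linter.unusedSectionVars false
set_option linter.unusedSimpArgs false
set_option linter.style.haveILetI false

namespace Cfsg.Agent.Lib.DegreePSubTwo

open Cfsg Cfsg.Agent.Lib.Characters Matrix
open scoped ComplexConjugate

universe u

variable {G : Type u} [Group G]

/-- The trace of a commuting idempotent times a representation is a character. -/
theorem isCharacter_trace_idempotent {V : Type*} [AddCommGroup V] [Module ℂ V] [FiniteDimensional ℂ V]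
    (π : Representation ℂ G V) (P : Module.End ℂ V) (hP : P * P = P) (hc : ∀ g, P * π g = π g * P) :
    IsCharacter G (fun g => LinearMap.trace ℂ V (P * π g)) := by
  have hmem : ∀ g, ∀ x ∈ LinearMap.range P, π g x ∈ LinearMap.range P := by
    rintro g _ ⟨y, rfl⟩
    exact ⟨π g y, by rw [← Module.End.mul_apply, hc, Module.End.mul_apply]⟩
  let σ : Representation ℂ G (LinearMap.range P) :=
    { toFun := fun g => (π g).restrict (hmem g)
      map_one' := LinearMap.ext fun x => Subtype.ext (by simp)
      map_mul' := fun a b => LinearMap.ext fun x => Subtype.ext (by simp) }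
  have hall : ∀ g, ∀ x, (P * π g : Module.End ℂ V) x ∈ LinearMap.range P := fun g x =>
    ⟨π g x, (Module.End.mul_apply _ _ x).symm⟩
  have he : (fun g => LinearMap.trace ℂ V (P * π g)) = σ.character := by
    funext g
    show _ = LinearMap.trace ℂ (LinearMap.range P) ((π g).restrict (hmem g))
    have h1 : (P * π g : Module.End ℂ V) = (LinearMap.range P).subtype ∘ₗ (P.rangeRestrict ∘ₗ π g) :=
      LinearMap.ext fun x => rfl
    rw [h1, LinearMap.trace_comp_comm']
    congr 1
    refine LinearMap.ext fun x => Subtype.ext ?_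
    obtain ⟨y, hy⟩ := x.2
    show (P * π g : Module.End ℂ V) x.1 = π g x.1
    rw [hc, Module.End.mul_apply, ← hy, ← Module.End.mul_apply P P, hP]
  rw [he]
  exact isCharacter_of_rep σ

theorem isCharacter_altSquare [Finite G] {χ : G → ℂ} (hχ : IsCharacter G χ) :
    IsCharacter G (fun g => (χ g * χ g - χ (g * g)) / 2) := by
  classical
  haveI := Fintype.ofFinite G
  obtain ⟨n, ρ, rfl⟩ := hχ
  let A : G →* Matrix (Fin n) (Fin n) ℂ :=
    { toFun := fun g => LinearMap.toMatrix' (ρ g)
      map_one' := by rw [map_one]; exact LinearMap.toMatrix'_id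
      map_mul' := fun g h => by rw [map_mul]; exact LinearMap.toMatrix'_comp _ _ }
  have hA : ∀ g, ρ.character g = (A g).trace := fun g =>
    LinearMap.trace_eq_matrix_trace ℂ (Pi.basisFun ℂ (Fin n)) (ρ g)
  let π := formRep A
  let τ : Module.End ℂ (Matrix (Fin n) (Fin n) ℂ) :=
    (Matrix.transposeLinearEquiv (Fin n) (Fin n) ℂ ℂ).toLinearMap
  have h1 : ∀ g, LinearMap.trace ℂ _ (π g) = ρ.character g⁻¹ * ρ.character g⁻¹ := by
    intro g
    rw [trace_matrix_endo, hA, Matrix.trace, Finset.sum_mul_sum]
    refine Finset.sum_congr rfl fun i _ => Finset.sum_congr rfl fun j _ => ?_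
    show ((A g⁻¹)ᵀ * Matrix.single i j (1 : ℂ) * A g⁻¹ : Matrix (Fin n) (Fin n) ℂ) i j = _
    simp [Matrix.mul_apply, Matrix.single, Matrix.diag, Finset.sum_ite_eq, ite_and]
  have h2 : ∀ g, LinearMap.trace ℂ _ (τ * π g) = ρ.character (g⁻¹ * g⁻¹) := by
    intro g
    rw [trace_matrix_endo, hA, map_mul, Matrix.trace]
    refine Finset.sum_congr rfl fun i _ => ?_
    rw [Matrix.diag_apply, Matrix.mul_apply]
    refine Finset.sum_congr rfl fun j _ => ?_
    show ((A g⁻¹)ᵀ * Matrix.single i j (1 : ℂ) * A g⁻¹ : Matrix (Fin n) (Fin n) ℂ)ᵀ i j = _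
    simp [Matrix.mul_apply, Matrix.single, Finset.sum_ite_eq, ite_and]
  have hττ : τ * τ = 1 := LinearMap.ext fun B => by simp [τ]
  have hτc : ∀ g, τ * π g = π g * τ := fun g => LinearMap.ext fun B => by
    simp [τ, π, formRep, Matrix.transpose_mul, Matrix.mul_assoc]
  set P : Module.End ℂ (Matrix (Fin n) (Fin n) ℂ) := (2 : ℂ)⁻¹ • (1 - τ) with hP
  have hP2 : P * P = P := by
    have hh : (1 - τ) * (1 - τ) = (2 : ℂ) • (1 - τ) := by
      rw [two_smul, sub_mul, one_mul, mul_sub, mul_one, hττ]
      abel
    rw [hP, smul_mul_smul_comm, hh, smul_smul]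
    norm_num
  have hPc : ∀ g, P * π g = π g * P := fun g => by
    rw [hP, smul_mul_assoc, mul_smul_comm, sub_mul, mul_sub, one_mul, mul_one, hτc]
  have key := IsCharacter.conjugate (isCharacter_trace_idempotent π P hP2 hPc)
  convert key using 1
  funext g
  rw [hP, smul_mul_assoc, map_smul, sub_mul, one_mul, map_sub, h1, h2, smul_eq_mul, map_mul,
    map_sub, map_mul, map_inv₀, map_ofNat, ← _root_.mul_inv_rev,
    IsCharacter.apply_inv (isCharacter_of_rep ρ), IsCharacter.apply_inv (isCharacter_of_rep ρ),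
    Complex.conj_conj, Complex.conj_conj]
  ring

end Cfsg.Agent.Lib.DegreePSubTwo
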