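import Cfsg.Agent.Lib.DegreePSubTwo.Sections

/-!
# The centre of a group with a faithful character of degree `p - 2`
-/

set_option autoImplicit false
set_option linter.unusedSectionVars false
set_option linter.style.haveILetI false

namespace Cfsg.Agent.Lib.DegreePSubTwo

open Cfsg Cfsg.Agent.Lib.Characters Cfsg.Agent.Lib.Blocks
open scoped ComplexConjugate

universe u

variable {G : Type u} [Group G] [Fintype G]

/-- A central element acts by a root of unity, whose `χ 1`-th power is `1` in a perfect group. -/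
theorem central_scalar {χ : G → ℂ} (hχ : IsIrrCharacter G χ) {z : G} (hz : z ∈ Subgroup.center G) :
    ∃ c : ℂ, c ^ Nat.card G = 1 ∧ (∀ g, χ (g * z) = c * χ g) ∧
      (commutator G = ⊤ → ∀ n : ℕ, χ 1 = n → c ^ n = 1) := by
  obtain ⟨n, ρ, hρ, rfl⟩ := hχ
  obtain ⟨c, hc⟩ := exists_smul_of_commute ρ (ρ z) fun g => by
    rw [← map_mul, ← map_mul, Subgroup.mem_center_iff.1 hz g]
  rw [← Module.End.one_eq_id] at hc
  have hn : 0 < n := by
    by_contra h
    push Not at h
    have h1 := IsIrrCharacter.apply_one_ne_zero (isIrrCharacter_of_rep ρ)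
    rw [ρ.char_one, Module.finrank_fin_fun] at h1
    exact h1 (by rw [show n = 0 by omega, Nat.cast_zero])
  refine ⟨c, ?_, fun g => ?_, fun hperf m hm => ?_⟩
  · have h := rep_pow_card ρ z
    rw [hc, smul_pow, one_pow] at h
    have h2 := congrArg (LinearMap.trace ℂ (Fin n → ℂ)) h
    rw [map_smul, LinearMap.trace_one, Module.finrank_fin_fun, smul_eq_mul] at h2
    exact (mul_eq_right₀ (Nat.cast_ne_zero.2 hn.ne')).1 h2
  · show LinearMap.trace ℂ _ (ρ (g * z)) = c * LinearMap.trace ℂ _ (ρ g)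
    rw [map_mul, hc, mul_smul_comm, mul_one, map_smul, smul_eq_mul]
  · rw [ρ.char_one, Module.finrank_fin_fun, Nat.cast_inj] at hm
    subst hm
    let f : G →* ℂ :=
      { toFun := fun g => LinearMap.det (ρ g)
        map_one' := by rw [_root_.map_one, _root_.map_one]
        map_mul' := fun a b => by rw [map_mul, map_mul] }
    have hk : commutator G ≤ f.toHomUnits.ker := Abelianization.commutator_subset_ker _
    rw [hperf] at hk
    have h1 := congrArg Units.val (MonoidHom.mem_ker.1 (hk (Subgroup.mem_top z)))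
    rw [MonoidHom.coe_toHomUnits, Units.val_one] at h1
    change LinearMap.det (ρ z) = 1 at h1
    rwa [hc, LinearMap.det_smul, _root_.map_one, mul_one, Module.finrank_fin_fun] at h1

/-- The scalar by which a central element acts. -/
noncomputable def cval (χ : G → ℂ) (z : G) : ℂ := χ z / χ 1

theorem cval_spec {χ : G → ℂ} (hχ : IsIrrCharacter G χ) {z : G} (hz : z ∈ Subgroup.center G) (g : G) :
    χ (g * z) = cval χ z * χ g := by
  obtain ⟨c, -, h, -⟩ := central_scalar hχ hz
  have h1 := h 1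
  rw [one_mul] at h1
  rw [h, cval, h1, mul_div_cancel_right₀ _ (IsIrrCharacter.apply_one_ne_zero hχ)]

theorem cval_root {χ : G → ℂ} (hχ : IsIrrCharacter G χ) {z : G} (hz : z ∈ Subgroup.center G) :
    cval χ z ^ Nat.card G = 1 := by
  obtain ⟨c, hc, h, -⟩ := central_scalar hχ hz
  have h1 := h 1
  rw [one_mul] at h1
  rwa [cval, h1, mul_div_cancel_right₀ _ (IsIrrCharacter.apply_one_ne_zero hχ)]

theorem cval_norm {χ : G → ℂ} (hχ : IsIrrCharacter G χ) {z : G} (hz : z ∈ Subgroup.center G) :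
    ‖cval χ z‖ = 1 :=
  norm_eq_one_of_pow_eq_one' Nat.card_pos.ne' (cval_root hχ hz)

theorem cval_mul {χ : G → ℂ} (hχ : IsIrrCharacter G χ) {z z' : G} (hz' : z' ∈ Subgroup.center G) :
    cval χ (z * z') = cval χ z * cval χ z' := by
  rw [cval, cval_spec hχ hz' z]; unfold cval; ring

variable {p : ℕ} [hp : Fact p.Prime]

/-- A faithful irreducible character of degree `p - 2` and a non-central subgroup of order `p`. -/
structure Setting (p : ℕ) (χ : IrrCharacter G) (P : Subgroup G) : Prop where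
  five : 5 < p
  deg : charDegree (χ : G → ℂ) + 2 = p
  faith : ∀ g : G, (χ : G → ℂ) g = (χ : G → ℂ) 1 → g = 1
  card_P : Nat.card P = p
  sq : ¬ p ^ 2 ∣ Nat.card G
  not_central : ¬ P ≤ Subgroup.center G

/-- The sum of the character `ψ` of `ZMod p` and its conjugate at `x`. -/
noncomputable def alpha (x : ZMod p) : ℂ :=
  haveI : NeZero p := ⟨hp.out.ne_zero⟩
  ZMod.stdAddChar x + ZMod.stdAddChar (-x)

/-- The data deduced from the sections. -/
structure Data (p : ℕ) [Fact p.Prime] (χ : IrrCharacter G) (P : Subgroup G) (u t : G) (k : ZMod p) :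
    Prop extends Setting p χ P where
  mem : u ∈ P
  ne_one : u ≠ 1
  order_u : orderOf u = p
  k_ne : k ≠ 0
  t_mem : t ∈ Subgroup.normalizer (P : Set G)
  conj_u : t * u * t⁻¹ = u⁻¹
  norm_cases : ∀ g ∈ Subgroup.normalizer (P : Set G), g ∈ Subgroup.centralizer (P : Set G) ∨
    t⁻¹ * g ∈ Subgroup.centralizer (P : Set G)
  cent : ∀ c ∈ Subgroup.centralizer (P : Set G), ∃ j : ZMod p, ∃ z ∈ Subgroup.center G,
    c = upow u j * z
  central_regular : ∀ z ∈ Subgroup.center G, ¬ p ∣ orderOf z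
  value : ∀ i : ZMod p, i ≠ 0 → ∀ z ∈ Subgroup.center G,
    (χ : G → ℂ) (upow u i * z) = -alpha (i * k) * cval (χ : G → ℂ) z
  singular : ∀ g : G, p ∣ orderOf g → ∃ (c : G) (i : ZMod p) (z : G), i ≠ 0 ∧
    z ∈ Subgroup.center G ∧ c * g * c⁻¹ = upow u i * z

theorem Setting.exists_data {χ : IrrCharacter G} {P : Subgroup G} (H : Setting p χ P) :
    ∃ (u t : G) (k : ZMod p), Data p χ P u t k := by
  classical
  haveI : NeZero p := ⟨hp.out.ne_zero⟩
  obtain ⟨u, O, S⟩ := exists_primeSplit P H.card_P H.sq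
  obtain ⟨M, hM⟩ := exists_isPModular hp.out
  haveI : M.IsPrime := hM.2.1.isPrime
  haveI := Fintype.ofFinite O
  haveI := Fintype.ofFinite (Subgroup.centralizer (P : Set G))
  have hucen : u ∉ Subgroup.center G := by
    intro h
    refine H.not_central fun x hx => ?_
    obtain ⟨i, rfl⟩ := exists_upow_eq H.card_P S.mem S.ne_one hx
    exact pow_mem h _
  have hns : ∀ z : ℂ, z ^ p = 1 → ¬ ∀ i : ℕ, (χ : G → ℂ) (u ^ i) = (χ : G → ℂ) 1 * z ^ i := by
    intro z hz h
    refine hucen (Subgroup.mem_center_iff.2 fun g => ?_)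
    have h1 := H.faith _ (comm_eq_of_scalar χ S.pow_u hz h g)
    rw [mul_inv_eq_one, mul_inv_eq_iff_eq_mul] at h1
    exact h1.symm
  obtain ⟨θ, t, k, hk, ht, htu, hθ, hcases, hval, hO⟩ := sections_p_sub_two hM S χ H.deg hns
  obtain ⟨l, hl⟩ := IsCharacter.exists_hom_of_apply_one (irr_isCharacter θ)
    (by rw [← charDegree_eq θ, hθ, Nat.cast_one])
  have hθy : ∀ y : O, ‖(θ : O → ℂ) y‖ = 1 := by
    intro y
    rw [hl]
    refine norm_eq_one_of_pow_eq_one' (n := Nat.card O) Nat.card_pos.ne' ?_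
    rw [← Units.val_pow_eq_pow_val, ← map_pow, pow_card_eq_one', map_one, Units.val_one]
  have hOZ : ∀ y : O, (y : G) ∈ Subgroup.center G := by
    intro y
    refine CharMisc.mem_center_of_norm_eq χ.2 H.faith ?_
    rw [hO, norm_mul, hθy, mul_one, ← charDegree_eq χ]
  have hd0 : (charDegree (χ : G → ℂ) : ℂ) ≠ 0 := Nat.cast_ne_zero.2 (charDegree_pos χ).ne'
  have hθc : ∀ y : O, (θ : O → ℂ) y = cval (χ : G → ℂ) (y : G) := by
    intro y
    rw [cval, hO, ← charDegree_eq χ, mul_div_cancel_left₀ _ hd0]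
  have hcent : ∀ c ∈ Subgroup.centralizer (P : Set G), ∃ j : ZMod p, ∃ z ∈ Subgroup.center G,
      c = upow u j * z := by
    intro c hc
    obtain ⟨j, y, hy, rfl⟩ := S.dec c hc
    exact ⟨j, y, hOZ ⟨y, hy⟩, by rw [upow_natCast S.pow_u]⟩
  have hZO : ∀ z ∈ Subgroup.center G, z ∈ O := by
    intro z hz
    have hzC : z ∈ Subgroup.centralizer (P : Set G) :=
      Subgroup.mem_centralizer_iff.2 fun a _ => Subgroup.mem_center_iff.1 hz a
    obtain ⟨j, y, hy, hj⟩ := S.dec z hzC
    have huj : upow u (j : ZMod p) ∈ Subgroup.center G := by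
      rw [upow_natCast S.pow_u, show u ^ j = z * y⁻¹ by rw [hj, mul_inv_cancel_right]]
      exact mul_mem hz (inv_mem (hOZ ⟨y, hy⟩))
    by_cases hj0 : (j : ZMod p) = 0
    · rw [hj, ← upow_natCast S.pow_u, hj0, upow_zero, one_mul]; exact hy
    · exfalso
      refine hucen ?_
      have := upow_mul_natCast S.pow_u ((j : ZMod p)⁻¹).val (j : ZMod p)
      rw [ZMod.natCast_zmod_val, inv_mul_cancel₀ hj0, ← Nat.cast_one, upow_natCast S.pow_u,
        pow_one] at this
      rw [this]
      exact pow_mem huj _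
  refine ⟨u, t, k, ⟨H, S.mem, S.ne_one, S.orderOf_u, hk, ht, htu, hcases, hcent,
    fun z hz => ((S.mem_iff z).1 (hZO z hz)).2, fun i hi z hz => ?_, fun g hg => ?_⟩⟩
  · rw [show upow u i * z = upow u i * ((⟨z, hZO z hz⟩ : O) : G) from rfl, hval i hi, hθc]
    rfl
  · obtain ⟨c, i, y, hi, hc⟩ := S.exists_conj_singular hg
    exact ⟨c, i, y, hi, hOZ y, hc⟩

/-- An involution commutes with no `p`-singular element. -/
theorem Data.regular_of_commute {χ : IrrCharacter G} {P : Subgroup G} {u t : G} {k : ZMod p}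
    (D : Data p χ P u t k) (hZodd : ∀ z ∈ Subgroup.center G, Odd (orderOf z)) {z g : G}
    (hz : orderOf z = 2) (hcomm : Commute z g) : ¬ p ∣ orderOf g := by
  haveI : NeZero p := ⟨hp.out.ne_zero⟩
  intro hg
  obtain ⟨c, i, w, hi, hw, hc⟩ := D.singular g hg
  set z' := c * z * c⁻¹ with hz'
  have h1 : Commute z' (c * g * c⁻¹) := hcomm.map (MulAut.conj c).toMonoidHom
  rw [hc] at h1
  have h2 : Commute z' (upow u i) := by
    have h3 : Commute z' w⁻¹ := (Subgroup.mem_center_iff.1 (inv_mem hw) z' : _)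
    have := h1.mul_right h3
    rwa [mul_inv_cancel_right] at this
  have hui : upow u i ≠ 1 := fun h => hi ((upow_eq_one_iff D.order_u i).1 h)
  have h4 : z' ∈ Subgroup.centralizer (P : Set G) := by
    rw [← centralizer_eq_of_prime P D.card_P (upow_mem D.mem i) hui]
    exact Subgroup.mem_centralizer_singleton_iff.2 h2.eq
  obtain ⟨j, w', hw', hj⟩ := D.cent z' h4
  have hord : orderOf z' = 2 := by
    rw [hz', ← MulAut.conj_apply, MulEquiv.orderOf_eq]; exact hz
  have hodd : Odd (orderOf z') := by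
    rw [hj]
    refine Odd.of_dvd_nat (n := orderOf (upow u j) * orderOf w') ?_
      (Commute.orderOf_mul_dvd_mul_orderOf (Subgroup.mem_center_iff.1 hw' (upow u j)))
    refine Odd.mul (Odd.of_dvd_nat (n := p) (hp.out.odd_of_ne_two (by have := D.five; omega)) ?_)
      (hZodd w' hw')
    exact (Subgroup.orderOf_dvd_natCard _ (upow_mem D.mem j)).trans D.card_P.dvd
  rw [hord] at hodd
  exact absurd hodd (by decide)

/-- In a perfect group the centre has odd order elements. -/
theorem Data.center_pow {χ : IrrCharacter G} {P : Subgroup G} {u t : G} {k : ZMod p}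
    (D : Data p χ P u t k) (hperf : commutator G = ⊤) {z : G} (hz : z ∈ Subgroup.center G) :
    z ^ (p - 2) = 1 := by
  obtain ⟨c, -, h, hdet⟩ := central_scalar χ.2 hz
  have hn : charDegree (χ : G → ℂ) = p - 2 := by have := D.deg; omega
  have hcn := hdet hperf (p - 2) (by rw [← hn, charDegree_eq])
  refine D.faith _ ?_
  have hpow : ∀ n : ℕ, (χ : G → ℂ) (z ^ n) = c ^ n * (χ : G → ℂ) 1 := by
    intro n
    induction n with
    | zero => simp
    | succ n ih => rw [pow_succ, h, ih, pow_succ]; ring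
  rw [hpow, hcn, one_mul]

end Cfsg.Agent.Lib.DegreePSubTwo
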