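import Cfsg.Agent.Lib.DegreePSubTwo.Square
import Cfsg.Agent.Lib.BlockHeights.CharTools

/-!
# Centralizers of involutions
-/

set_option autoImplicit false
set_option linter.unusedSectionVars false
set_option linter.style.haveILetI false

namespace Cfsg.Agent.Lib.DegreePSubTwo

open Cfsg Cfsg.Agent.Lib.Characters Cfsg.Agent.Lib.Blocks
open scoped ComplexConjugate

universe u

/-- Complex numbers of absolute value one whose sum has the largest possible absolute value are
equal. -/
theorem eq_of_norm_sum {ι : Type*} (s : Finset ι) (x : ι → ℂ) (hx : ∀ i ∈ s, ‖x i‖ = 1)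
    (h : (s.card : ℝ) ≤ ‖∑ i ∈ s, x i‖) :
    ∀ i ∈ s, (s.card : ℂ) * x i = ∑ j ∈ s, x j := by
  intro i hi
  set T := ∑ j ∈ s, x j with hT
  have hc : 0 < s.card := Finset.card_pos.2 ⟨i, hi⟩
  have hle : ‖T‖ ≤ (s.card : ℝ) := by
    refine (norm_sum_le _ _).trans ?_
    rw [Finset.sum_congr rfl hx]
    simp
  have heq : ‖T‖ = (s.card : ℝ) := le_antisymm hle h
  have hsum : ∑ j ∈ s, (x j * conj T).re = ∑ _j ∈ s, (s.card : ℝ) := by
    rw [← Complex.re_sum, ← Finset.sum_mul, ← hT, Complex.mul_conj, Complex.ofReal_re,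
      Complex.normSq_eq_norm_sq, heq, Finset.sum_const, nsmul_eq_mul, pow_two]
  have hle2 : ∀ j ∈ s, (x j * conj T).re ≤ (s.card : ℝ) := fun j hj => by
    refine (Complex.re_le_norm _).trans ?_
    rw [norm_mul, Complex.norm_conj, hx j hj, one_mul, heq]
  have hre := (Finset.sum_eq_sum_iff_of_le hle2).1 hsum i hi
  have hn : ‖x i * conj T‖ = (s.card : ℝ) := by
    rw [norm_mul, Complex.norm_conj, hx i hi, one_mul, heq]
  have him : (x i * conj T).im = 0 := by
    have h2 := Complex.sq_norm (x i * conj T)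
    rw [hn, Complex.normSq_apply, hre] at h2
    nlinarith
  have hval : x i * conj T = (s.card : ℂ) := Complex.ext (by simpa using hre) (by simpa using him)
  have h3 : x i * (conj T * T) = (s.card : ℂ) * T := by rw [← mul_assoc, hval]
  rw [mul_comm (conj T), Complex.mul_conj, Complex.normSq_eq_norm_sq, heq] at h3
  push_cast at h3
  refine mul_left_cancel₀ (Nat.cast_ne_zero.2 hc.ne' : (s.card : ℂ) ≠ 0) ?_
  linear_combination h3

theorem norm_sum_le_card {ι : Type*} (s : Finset ι) (x : ι → ℂ) (hx : ∀ i ∈ s, ‖x i‖ = 1) :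
    ‖∑ i ∈ s, x i‖ ≤ (s.card : ℝ) := by
  refine (norm_sum_le _ _).trans ?_
  rw [Finset.sum_congr rfl hx]
  simp

/-- The number of terms of a family of roots of unity with one common `r`-th power whose power
sums of exponent prime to `r` vanish is divisible by `r`. -/
theorem dvd_card_of_sum_eq_zero {ι : Type*} (s : Finset ι) (x : ι → ℂ) {r : ℕ}
    (hr : ∀ i ∈ s, ∀ j ∈ s, x i ^ r = x j ^ r) (hx : ∀ i ∈ s, x i ≠ 0)
    (h0 : ∀ a, 1 ≤ a → a < r → ∑ i ∈ s, x i ^ a = 0) (hr0 : 0 < r) : r ∣ s.card := by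
  classical
  rcases s.eq_empty_or_nonempty with rfl | ⟨i₀, hi₀⟩
  · simp
  have hρ : ∀ i ∈ s, (x i / x i₀) ^ r = 1 := fun i hi => by
    rw [div_pow, hr i hi i₀ hi₀, div_self (pow_ne_zero _ (hx i₀ hi₀))]
  have h1 : ∑ a ∈ Finset.range r, ∑ i ∈ s, (x i / x i₀) ^ a = (s.card : ℂ) := by
    rw [Finset.sum_eq_single 0]
    · simp
    · intro a ha ha0
      rw [Finset.sum_congr rfl fun i _ => div_pow (x i) (x i₀) a, ← Finset.sum_div,
        h0 a (Nat.pos_of_ne_zero ha0) (Finset.mem_range.1 ha), zero_div]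
    · intro h; exact absurd (Finset.mem_range.2 hr0) h
  rw [Finset.sum_comm, Finset.sum_congr rfl fun i hi =>
    show ∑ a ∈ Finset.range r, (x i / x i₀) ^ a = if x i / x i₀ = 1 then (r : ℂ) else 0 by
      by_cases h : x i / x i₀ = 1
      · rw [if_pos h, h]; simp
      · rw [if_neg h, geom_sum_eq h, hρ i hi, sub_self, zero_div],
    ← Finset.sum_filter, Finset.sum_const, nsmul_eq_mul] at h1
  exact ⟨_, (Nat.cast_injective (R := ℂ) (by push_cast; rw [mul_comm]; exact h1)).symm⟩

variable {G : Type u} [Group G] [Fintype G] {p : ℕ}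

/-- What the alternating square gives. -/
structure SquareData (p : ℕ) (χ : IrrCharacter G) (b : ℕ) : Prop where
  five : 5 < p
  odd : p % 2 = 1
  deg : (χ : G → ℂ) 1 = ((p - 2 : ℕ) : ℂ)
  faith : ∀ g : G, (χ : G → ℂ) g = (χ : G → ℂ) 1 → g = 1
  center_odd : ∀ z ∈ Subgroup.center G, Odd (orderOf z)
  b4 : b % 4 = 1
  regular : ∀ z g : G, orderOf z = 2 → Commute z g → ¬ p ∣ orderOf g
  cop : ∀ g : G, ¬ p ∣ orderOf g → Nat.Coprime b (orderOf g)
  square : ∀ g : G, ¬ p ∣ orderOf g → (χ : G → ℂ) g * (χ : G → ℂ) g - (χ : G → ℂ) (g * g) =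
    ((p : ℂ) - 3) * (χ : G → ℂ) (g ^ b)

variable {χ : IrrCharacter G} {b : ℕ}

theorem SquareData.invol (D : SquareData p χ b) {z : G} (hz : orderOf z = 2) :
    (χ : G → ℂ) z = -1 := by
  have h5 := D.five
  have hzz : z * z = 1 := by rw [← pow_two, ← hz]; exact pow_orderOf_eq_one z
  have hb : z ^ b = z := by
    rw [← pow_mod_orderOf, hz, show b % 2 = 1 by have := D.b4; omega, pow_one]
  have h := D.square z (D.regular z z hz rfl)
  rw [hzz, hb, D.deg, Nat.cast_sub (by omega : 2 ≤ p), Nat.cast_ofNat] at h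
  have h2 : ((χ : G → ℂ) z + 1) * ((χ : G → ℂ) z - ((p : ℂ) - 2)) = 0 := by linear_combination h
  rcases mul_eq_zero.1 h2 with h3 | h3
  · exact eq_neg_of_add_eq_zero_left h3
  · exfalso
    have h4 := D.faith z (by
      rw [D.deg, Nat.cast_sub (by omega : 2 ≤ p), Nat.cast_ofNat]
      exact sub_eq_zero.1 h3)
    rw [h4, orderOf_one] at hz
    exact absurd hz (by norm_num)

theorem SquareData.not_four (D : SquareData p χ b) (g : G) : orderOf g ≠ 4 := by
  intro hg
  have h5 := D.five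
  have hz : orderOf (g ^ 2) = 2 := by rw [orderOf_pow' g (by norm_num), hg]; norm_num
  have hb : g ^ b = g := by rw [← pow_mod_orderOf, hg, D.b4, pow_one]
  have h := D.square g (D.regular (g ^ 2) g hz (Commute.pow_self g 2))
  rw [← pow_two g, D.invol hz, hb] at h
  obtain ⟨ι, _, μ, hμ, hsum⟩ := BlockHeights.exists_eigen_sum (irr_isCharacter χ) g
  rw [hg] at hμ
  obtain ⟨x, y, hxy⟩ : ∃ x y : ℤ, (χ : G → ℂ) g = (x : ℂ) + (y : ℂ) * Complex.I := by
    have h1 := hsum 1
    simp only [pow_one] at h1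
    rw [h1]
    refine Finset.sum_induction _ (fun w : ℂ => ∃ x y : ℤ, w = (x : ℂ) + (y : ℂ) * Complex.I) ?_ ?_
      fun i _ => ?_
    · rintro _ _ ⟨a, b, rfl⟩ ⟨c, d, rfl⟩
      exact ⟨a + c, b + d, by push_cast; ring⟩
    · exact ⟨0, 0, by simp⟩
    · have h2 : (μ i - 1) * ((μ i + 1) * ((μ i - Complex.I) * (μ i + Complex.I))) = 0 := by
        linear_combination (hμ i) + (1 - μ i ^ 2) * Complex.I_mul_I
      rcases mul_eq_zero.1 h2 with h3 | h3
      · exact ⟨1, 0, by push_cast; linear_combination h3⟩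
      rcases mul_eq_zero.1 h3 with h3 | h3
      · exact ⟨-1, 0, by push_cast; linear_combination h3⟩
      rcases mul_eq_zero.1 h3 with h3 | h3
      · exact ⟨0, 1, by push_cast; linear_combination h3⟩
      · exact ⟨0, -1, by push_cast; linear_combination h3⟩
  rw [hxy] at h
  have hre := congrArg Complex.re h
  have him := congrArg Complex.im h
  simp at hre him
  have e1 : ((x * x - y * y + 1 : ℤ) : ℝ) = ((((p : ℤ) - 3) * x : ℤ) : ℝ) := by
    push_cast; linarith
  have e2 : ((2 * x * y : ℤ) : ℝ) = ((((p : ℤ) - 3) * y : ℤ) : ℝ) := by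
    push_cast; linarith
  have f1 := Int.cast_injective e1
  have f2 := Int.cast_injective e2
  have hp : (6 : ℤ) ≤ p := by exact_mod_cast h5
  rcases eq_or_ne y 0 with rfl | hy
  · have hx : x * ((p : ℤ) - 3 - x) = 1 := by linear_combination -f1
    rcases Int.eq_one_or_neg_one_of_mul_eq_one hx with rfl | rfl <;> omega
  · have hx : (p : ℤ) - 3 = 2 * x := mul_right_cancel₀ hy (by linear_combination -f2)
    rw [hx] at f1
    nlinarith [mul_self_nonneg y]

/-- An element of odd order centralizing an involution with a power of prime exponent central is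
central. -/
theorem SquareData.mem_center_of_pow (D : SquareData p χ b) {z g : G} (hz : orderOf z = 2)
    (hzg : Commute z g) (hodd : Odd (orderOf g)) {r : ℕ} (hr : r.Prime)
    (hgr : g ^ r ∈ Subgroup.center G) : g ∈ Subgroup.center G := by
  classical
  by_contra hg
  have h5 := D.five
  set N := orderOf g with hN
  have hNpos : 0 < N := orderOf_pos g
  obtain ⟨f, hf⟩ : ∃ f, p = 2 * f + 3 := ⟨(p - 3) / 2, by have := D.odd; omega⟩
  -- `g` is a power of `g ^ i` for `i` prime to `r`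
  have hgen : ∀ i : ℕ, ¬ r ∣ i → g ^ i ∈ Subgroup.center G → False := by
    intro i hi hc
    obtain ⟨a, ha⟩ := Nat.exists_mul_mod_eq_one_of_coprime ((hr.coprime_iff_not_dvd.2 hi).symm) hr.one_lt
    apply hg
    have h1 : g ^ (i * a) ∈ Subgroup.center G := by rw [pow_mul]; exact pow_mem hc _
    rw [← Nat.div_add_mod (i * a) r, ha.2, pow_add, pow_one, pow_mul] at h1
    exact (Subgroup.mul_mem_cancel_left _ (pow_mem hgr _)).1 h1
  have hrN : r ∣ N := by
    by_contra h
    refine hgen N h ?_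
    rw [hN, pow_orderOf_eq_one]
    exact one_mem _
  have hreg : ¬ p ∣ orderOf g := D.regular z g hz hzg
  have hbN : Nat.Coprime b N := D.cop g hreg
  -- eigenvalues
  have hz2 : z ^ 2 = 1 := hz ▸ pow_orderOf_eq_one z
  have hgN : g ^ N = 1 := pow_orderOf_eq_one g
  have hzN : z ^ N = z := by rw [← pow_mod_orderOf, hz, Nat.odd_iff.1 hodd, pow_one]
  have hzev : ∀ n, Even n → z ^ n = 1 := by
    rintro n ⟨q, rfl⟩
    rw [← two_mul, pow_mul, hz2, one_pow]
  obtain ⟨ι, hι, μ, hμ, hsum⟩ := BlockHeights.exists_eigen_sum (irr_isCharacter χ) (g * z)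
  have hμ2 : ∀ x, μ x ^ (2 * N) = 1 := by
    intro x
    have h : orderOf (g * z) ∣ 2 * N := orderOf_dvd_of_pow_eq_one (by
      rw [hzg.symm.mul_pow, hzev _ ⟨N, two_mul N⟩, mul_one, mul_comm, pow_mul, hgN, one_pow])
    obtain ⟨c, hc⟩ := h
    rw [hc, pow_mul, hμ x, one_pow]
  have hμn : ∀ x, ‖μ x‖ = 1 := fun x => norm_eq_one_of_pow_eq_one' (by omega) (hμ2 x)
  let lam : ι → ℂ := fun x => μ x ^ (N + 1)
  have hlamN : ∀ x, lam x ^ N = 1 := by
    intro x
    obtain ⟨q, hq⟩ := hodd
    show (μ x ^ (N + 1)) ^ N = 1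
    rw [← pow_mul, show (N + 1) * N = 2 * N * (q + 1) by rw [hN] at hq; subst N; rw [hq]; ring,
      pow_mul, hμ2, one_pow]
  have hlamn : ∀ x, ‖lam x‖ = 1 := fun x => norm_eq_one_of_pow_eq_one' hNpos.ne' (hlamN x)
  have hgpow : ∀ i : ℕ, (χ : G → ℂ) (g ^ i) = ∑ x, lam x ^ i := by
    intro i
    rw [Finset.sum_congr rfl fun x _ => (pow_mul (μ x) (N + 1) i).symm, ← hsum, hzg.symm.mul_pow,
      hzev ((N + 1) * i) ((hodd.add_one).mul_right i), mul_one, pow_mul, pow_succ, hgN, one_mul]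
  have hgzpow : ∀ i : ℕ, (χ : G → ℂ) (g ^ i * z) = ∑ x, lam x ^ i * μ x ^ N := by
    intro i
    rw [Finset.sum_congr rfl fun x _ => show lam x ^ i * μ x ^ N = μ x ^ ((N + 1) * i + N) by
      rw [pow_add, pow_mul], ← hsum, hzg.symm.mul_pow]
    rw [pow_add g, pow_mul, pow_succ, hgN, one_mul, mul_one, pow_add z,
      hzev ((N + 1) * i) ((hodd.add_one).mul_right i), one_mul, hzN]
  set A := (Finset.univ : Finset ι).filter fun x => μ x ^ N = 1 with hA
  set B := (Finset.univ : Finset ι).filter fun x => ¬ μ x ^ N = 1 with hB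
  let α : ℕ → ℂ := fun i => ∑ x ∈ A, lam x ^ i
  let β : ℕ → ℂ := fun i => ∑ x ∈ B, lam x ^ i
  have hplus : ∀ i, (χ : G → ℂ) (g ^ i) = α i + β i := fun i => by
    rw [hgpow]; exact (Finset.sum_filter_add_sum_filter_not _ _ _).symm
  have hminus : ∀ i, (χ : G → ℂ) (g ^ i * z) = α i - β i := fun i => by
    rw [hgzpow, ← Finset.sum_filter_add_sum_filter_not Finset.univ (fun x => μ x ^ N = 1),
      sub_eq_add_neg, show -β i = ∑ x ∈ B, -(lam x ^ i) from (Finset.sum_neg_distrib _).symm]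
    refine congrArg₂ (· + ·) (Finset.sum_congr rfl fun x hx => ?_) (Finset.sum_congr rfl fun x hx => ?_)
    · rw [(Finset.mem_filter.1 hx).2, mul_one]
    · have hsq : μ x ^ N * μ x ^ N = 1 := by rw [← pow_add, ← two_mul]; exact hμ2 x
      have h : (μ x ^ N - 1) * (μ x ^ N + 1) = 0 := by linear_combination hsq
      have h' := (mul_eq_zero.1 h).resolve_left (sub_ne_zero.2 (Finset.mem_filter.1 hx).2)
      rw [eq_neg_of_add_eq_zero_left h', mul_neg_one]
  have hcards : A.card = f ∧ B.card = f + 1 := by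
    have e1 := hplus 0
    have e2 := hminus 0
    simp only [α, β, pow_zero, Finset.sum_const, nsmul_one, one_mul] at e1 e2
    rw [D.deg] at e1
    rw [D.invol hz] at e2
    have h1 : A.card + B.card = p - 2 :=
      Nat.cast_injective (R := ℂ) (by rw [Nat.cast_add]; exact e1.symm)
    have h2 : B.card = A.card + 1 :=
      Nat.cast_injective (R := ℂ) (by rw [Nat.cast_add, Nat.cast_one]; linear_combination e2)
    omega
  have hcomm : ∀ i, Commute z (g ^ i) := fun i => hzg.pow_right i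
  have hp3 : (p : ℂ) - 3 = 2 * (f : ℂ) := by rw [hf]; push_cast; ring
  have hpr : ∀ i, α i * β i = (f : ℂ) * β (i * b) ∧
      α i * α i + β i * β i - α (2 * i) - β (2 * i) = 2 * (f : ℂ) * α (i * b) := by
    intro i
    have h1 := D.square (g ^ i) (D.regular z _ hz (hcomm i))
    have h2 := D.square (g ^ i * z) (D.regular z _ hz ((hcomm i).mul_right rfl))
    rw [← pow_add, ← two_mul, ← pow_mul, hplus, hplus, hplus, hp3] at h1
    rw [show g ^ i * z * (g ^ i * z) = g ^ (2 * i) by
      rw [mul_assoc, ← mul_assoc z, (hcomm i).eq, mul_assoc (g ^ i), ← pow_two z, hz2, mul_one,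
        ← pow_add, two_mul], (hcomm i).symm.mul_pow, ← pow_mul,
      show z ^ b = z by rw [← pow_mod_orderOf, hz, show b % 2 = 1 by have := D.b4; omega, pow_one],
      hminus, hplus, hminus, hp3] at h2
    exact ⟨by linear_combination (h1 - h2) / 4, by linear_combination (h1 + h2) / 2⟩
  -- exponents prime to `r`
  have hper : ∀ F : Finset ι, ∀ i, ∑ x ∈ F, lam x ^ (i % N) = ∑ x ∈ F, lam x ^ i := by
    intro F i
    refine Finset.sum_congr rfl fun x _ => ?_
    conv_rhs => rw [← Nat.mod_add_div i N, pow_add, pow_mul, hlamN, one_pow, mul_one]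
  have hmod : ∀ i, ¬ r ∣ i → ¬ r ∣ i % N := fun i hi h => hi ((Nat.dvd_mod_iff hrN).1 h)
  set I := (Finset.range N).filter fun i => ¬ r ∣ i with hI
  have hImem : ∀ i, ¬ r ∣ i → i % N ∈ I := fun i hi =>
    Finset.mem_filter.2 ⟨Finset.mem_range.2 (Nat.mod_lt _ hNpos), hmod i hi⟩
  obtain ⟨b', -, hb'⟩ := Nat.exists_mul_mod_eq_one_of_coprime hbN (by
    rcases eq_or_ne N 1 with h | h
    · exact absurd (Nat.le_of_dvd (by omega) (h ▸ hrN)) (by have := hr.two_le; omega)
    · omega)
  have hback : ∀ (F : Finset ι) (j : ℕ), ∑ x ∈ F, lam x ^ (j * b' * b) = ∑ x ∈ F, lam x ^ j := by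
    intro F j
    rw [← hper F (j * b' * b), ← hper F j, mul_assoc, Nat.mul_mod, mul_comm b' b, hb', mul_one,
      Nat.mod_mod]
  have hb'r : ∀ j, ¬ r ∣ j → ¬ r ∣ j * b' := by
    intro j hj h
    rcases hr.dvd_mul.1 h with h | h
    · exact hj h
    · have h2 : r ∣ b * b' % N := (Nat.dvd_mod_iff hrN).2 (h.mul_left b)
      rw [hb'] at h2
      exact hr.not_dvd_one h2
  have hpn : ∀ (F : Finset ι) (i : ℕ), ∀ x ∈ F, ‖lam x ^ i‖ = 1 := fun F i x _ => by
    rw [norm_pow, hlamn, one_pow]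
  have hr0 : r ≠ 2 := by
    rintro rfl
    exact Nat.not_even_iff_odd.2 hodd (even_iff_two_dvd.2 hrN)
  have h2r : ∀ i, ¬ r ∣ i → ¬ r ∣ 2 * i := fun i hi h => by
    rcases hr.dvd_mul.1 h with h | h
    · exact hr0 ((Nat.prime_dvd_prime_iff_eq hr Nat.prime_two).1 h)
    · exact hi h
  have hf2 : 2 ≤ f := by omega
  have hlamr : ∀ x y : ι, lam x ^ r = lam y ^ r := by
    have h := cval_spec χ.2 hgr 1
    rw [one_mul, hgpow, D.deg] at h
    have hn : ‖∑ x, lam x ^ r‖ = ((p - 2 : ℕ) : ℝ) := by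
      rw [h, norm_mul, cval_norm χ.2 hgr, one_mul, Complex.norm_natCast]
    have hcard : (Finset.univ : Finset ι).card = p - 2 := by
      have h0 := hgpow 0
      simp only [pow_zero, Finset.sum_const, nsmul_one] at h0
      rw [D.deg] at h0
      exact (Nat.cast_injective (R := ℂ) h0).symm
    have hall := eq_of_norm_sum Finset.univ (fun x => lam x ^ r) (hpn _ r) (by rw [hn, hcard])
    intro x y
    refine mul_left_cancel₀ (Nat.cast_ne_zero.2 (by omega) :
      (((Finset.univ : Finset ι).card : ℕ) : ℂ) ≠ 0) ?_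
    rw [hall x (Finset.mem_univ _), hall y (Finset.mem_univ _)]
  by_cases hβ : ∃ i ∈ I, β i ≠ 0
  · obtain ⟨i₀, hi₀, hi₀0⟩ := hβ
    obtain ⟨j, hj, hmax⟩ := Finset.exists_max_image I (fun i => ‖β i‖) ⟨i₀, hi₀⟩
    set i := j * b' with hi
    have hir : ¬ r ∣ i := hb'r j (Finset.mem_filter.1 hj).2
    have hM : 0 < ‖β j‖ := lt_of_lt_of_le (norm_pos_iff.2 hi₀0) (hmax i₀ hi₀)
    have hib : β (i * b) = β j := hback B j
    have hle : ‖β i‖ ≤ ‖β j‖ := by
      rw [show β i = β (i % N) from (hper B i).symm]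
      exact hmax _ (hImem i hir)
    have hα : (A.card : ℝ) ≤ ‖α i‖ := by
      have h1 := congrArg norm (hpr i).1
      rw [norm_mul, norm_mul, hib, Complex.norm_natCast] at h1
      rw [hcards.1]
      by_contra hlt
      push Not at hlt
      have h2 : ‖α i‖ * ‖β i‖ ≤ ‖α i‖ * ‖β j‖ := mul_le_mul_of_nonneg_left hle (norm_nonneg _)
      have h3 : ‖α i‖ * ‖β j‖ < (f : ℝ) * ‖β j‖ := mul_lt_mul_of_pos_right hlt hM
      linarith
    obtain ⟨x₀, hx₀⟩ : A.Nonempty := Finset.card_pos.1 (by omega)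
    set L := lam x₀ ^ i with hL
    have hLn : ‖L‖ = 1 := hpn A i x₀ hx₀
    have hAL : ∀ x ∈ A, lam x ^ i = L := by
      intro x hx
      have hall := eq_of_norm_sum A (fun x => lam x ^ i) (hpn A i) hα
      refine mul_left_cancel₀ (Nat.cast_ne_zero.2 (by omega) : ((A.card : ℕ) : ℂ) ≠ 0) ?_
      rw [hall x hx, hall x₀ hx₀]
    have hαi : α i = (f : ℂ) * L := by
      rw [← hcards.1, ← nsmul_eq_mul, ← Finset.sum_const]
      exact Finset.sum_congr rfl hAL
    have hαb : α (i * b) = (f : ℂ) * L ^ b := by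
      rw [← hcards.1, ← nsmul_eq_mul, ← Finset.sum_const]
      exact Finset.sum_congr rfl fun x hx => by rw [pow_mul, hAL x hx]
    have hα2 : α (2 * i) = (f : ℂ) * L ^ 2 := by
      rw [← hcards.1, ← nsmul_eq_mul, ← Finset.sum_const]
      exact Finset.sum_congr rfl fun x hx => by rw [mul_comm 2 i, pow_mul, hAL x hx]
    -- the pairwise products
    set W := B.offDiag.disjSum (Finset.range (f * (f - 1))) with hW
    let w : (ι × ι) ⊕ ℕ → ℂ := Sum.elim (fun q => lam q.1 ^ i * lam q.2 ^ i) (fun _ => L ^ 2)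
    have hWc : W.card = 2 * f * f := by
      rw [hW, Finset.card_disjSum, Finset.offDiag_card, Finset.card_range, hcards.2]
      obtain ⟨g', rfl⟩ : ∃ g', f = g' + 1 := ⟨f - 1, by omega⟩
      rw [Nat.add_sub_cancel, show (g' + 1 + 1) * (g' + 1 + 1) - (g' + 1 + 1) =
        (g' + 1 + 1) * (g' + 1) by
          rw [show (g' + 1 + 1) * (g' + 1 + 1) = (g' + 1 + 1) * (g' + 1) + (g' + 1 + 1) by ring,
            Nat.add_sub_cancel]]
      ring
    have hwsum : ∑ q ∈ W, w q = ((2 * f * f : ℕ) : ℂ) * L ^ b := by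
      rw [hW, Finset.sum_disjSum]
      simp only [w, Sum.elim_inl, Sum.elim_inr, Finset.sum_const, Finset.card_range, nsmul_eq_mul]
      have hoff : ∑ q ∈ B.offDiag, lam q.1 ^ i * lam q.2 ^ i = β i * β i - β (2 * i) := by
        have hunion := Finset.diag_union_offDiag B
        have h1 : β i * β i = ∑ q ∈ B ×ˢ B, lam q.1 ^ i * lam q.2 ^ i := by
          rw [Finset.sum_product, Finset.sum_mul_sum]
        rw [h1, ← hunion, Finset.sum_union (Finset.disjoint_diag_offDiag B), Finset.sum_diag,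
          show β (2 * i) = ∑ x ∈ B, lam x ^ i * lam x ^ i from
            Finset.sum_congr rfl fun x _ => by rw [two_mul, pow_add], add_sub_cancel_left]
      rw [hoff]
      have h2 := (hpr i).2
      rw [hαb, hαi, hα2] at h2
      rw [Nat.cast_mul, Nat.cast_mul, Nat.cast_mul, Nat.cast_sub (by omega : 1 ≤ f)]
      push_cast
      linear_combination h2
    have hwn : ∀ q ∈ W, ‖w q‖ = 1 := by
      rintro (q | q) -
      · simp only [w, Sum.elim_inl, norm_mul, norm_pow, hlamn, one_pow, mul_one]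
      · simp only [w, Sum.elim_inr, norm_pow, hLn, one_pow]
    have hwall := eq_of_norm_sum W w hwn (by
      rw [hwsum, norm_mul, Complex.norm_natCast, norm_pow, hLn, one_pow, mul_one, hWc])
    have hWne : ((W.card : ℕ) : ℂ) ≠ 0 := Nat.cast_ne_zero.2 (by
      rw [hWc]; exact Nat.mul_ne_zero (Nat.mul_ne_zero (by norm_num) (by omega)) (by omega))
    have hprod : ∀ x ∈ B, ∀ y ∈ B, x ≠ y → lam x ^ i * lam y ^ i = L ^ 2 := by
      intro x hx y hy hxy
      have h1 := hwall (Sum.inl (x, y)) (Finset.inl_mem_disjSum.2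
        (Finset.mem_offDiag.2 ⟨hx, hy, hxy⟩))
      have h2 := hwall (Sum.inr 0) (Finset.inr_mem_disjSum.2 (Finset.mem_range.2
        (Nat.mul_pos (by omega) (by omega))))
      exact mul_left_cancel₀ hWne (h1.trans h2.symm)
    have hBL : ∀ x ∈ B, lam x ^ i = L := by
      intro x hx
      obtain ⟨y, hy, hyx⟩ : ∃ y ∈ B, y ≠ x :=
        Finset.exists_mem_ne (by omega) x
      obtain ⟨y', hy', hy'x⟩ := Finset.exists_mem_ne
        (s := B.erase y) (by rw [Finset.card_erase_of_mem hy]; omega) x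
      obtain ⟨hy'y, hy'B⟩ := Finset.mem_erase.1 hy'
      have h0 : lam y ^ i ≠ 0 := fun h => by simpa [h] using hpn B i y hy
      have h0' : lam x ^ i ≠ 0 := fun h => by simpa [h] using hpn B i x hx
      have e1 := hprod x hx y hy hyx.symm
      have e2 := hprod x hx y' hy'B hy'x.symm
      have e3 := hprod y hy y' hy'B hy'y.symm
      have e4 : lam y' ^ i = lam y ^ i := mul_left_cancel₀ h0' (e2.trans e1.symm)
      rw [e4] at e3
      have e5 : lam x ^ i = lam y ^ i := mul_right_cancel₀ h0 (e1.trans e3.symm)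
      rw [← e5] at e1
      have hsq : (lam x ^ i / L) ^ 2 = 1 := by
        rw [div_pow, pow_two, e1, div_self]
        exact pow_ne_zero _ fun h => by simp [h] at hLn
      have hNe : (lam x ^ i / L) ^ N = 1 := by
        have hk : ∀ y, (lam y ^ i) ^ N = 1 := fun y => by
          rw [← pow_mul, mul_comm, pow_mul, hlamN, one_pow]
        rw [div_pow, hL, hk, hk, div_one]
      obtain ⟨q, hq⟩ := hodd
      rw [hq, pow_succ, pow_mul, hsq, one_pow, one_mul, div_eq_one_iff_eq (fun h => by simp [h] at hLn)] at hNe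
      exact hNe
    refine hgen i hir (CharMisc.mem_center_of_norm_eq χ.2 D.faith ?_)
    rw [hgpow, D.deg, Finset.sum_congr rfl fun x _ => show lam x ^ i = L by
      by_cases hx : μ x ^ N = 1
      · exact hAL x (Finset.mem_filter.2 ⟨Finset.mem_univ _, hx⟩)
      · exact hBL x (Finset.mem_filter.2 ⟨Finset.mem_univ _, hx⟩),
      Finset.sum_const, nsmul_eq_mul, norm_mul, hLn, mul_one]
    have h0 := hgpow 0
    simp only [pow_zero, Finset.sum_const, nsmul_one] at h0
    rw [← h0, D.deg]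
  · push Not at hβ
    have hβ0 : ∀ i, ¬ r ∣ i → β i = 0 := fun i hi => by
      show ∑ x ∈ B, lam x ^ i = 0
      rw [← hper B i]
      exact hβ _ (hImem i hi)
    have hα0 : ∀ i, ¬ r ∣ i → α i = 0 := by
      intro i hi
      obtain ⟨j, hj, hmax⟩ := Finset.exists_max_image I (fun i => ‖α i‖) ⟨_, hImem i hi⟩
      set m := j * b' with hm
      have hmr : ¬ r ∣ m := hb'r j (Finset.mem_filter.1 hj).2
      have hle : ∀ c, ¬ r ∣ c → ‖α c‖ ≤ ‖α j‖ := fun c hc => by
        rw [show α c = α (c % N) from (hper A c).symm]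
        exact hmax _ (hImem c hc)
      have h2 := (hpr m).2
      rw [hβ0 m hmr, hβ0 _ (h2r m hmr), mul_zero, add_zero, sub_zero,
        show α (m * b) = α j from hback A j] at h2
      have h3 := congrArg norm h2
      rw [norm_mul, norm_mul, Complex.norm_natCast, Complex.norm_ofNat] at h3
      have h4 : ‖α m * α m - α (2 * m)‖ ≤ ‖α j‖ * ‖α j‖ + ‖α j‖ :=
        (norm_sub_le _ _).trans (add_le_add ((norm_mul _ _).le.trans
          (mul_le_mul (hle m hmr) (hle m hmr) (norm_nonneg _) (norm_nonneg _))) (hle _ (h2r m hmr)))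
      have h5' : ‖α j‖ ≤ (f : ℝ) := hcards.1 ▸ norm_sum_le_card A _ (hpn A j)
      have hM : ‖α j‖ = 0 := by
        by_contra hM
        have hpos : 0 < ‖α j‖ := lt_of_le_of_ne (norm_nonneg _) (Ne.symm hM)
        have hf' : (2 : ℝ) ≤ f := by exact_mod_cast hf2
        have : 2 * (f : ℝ) ≤ ‖α j‖ + 1 := le_of_mul_le_mul_right (by nlinarith) hpos
        linarith
      exact norm_le_zero_iff.1 (hM ▸ hle i hi)
    have hne : ∀ x, lam x ≠ 0 := fun x h => by simpa [h] using hlamn x
    have hnd : ∀ a, 1 ≤ a → a < r → ¬ r ∣ a := fun a ha har h =>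
      absurd (Nat.le_of_dvd (by omega) h) (by omega)
    have hA' := dvd_card_of_sum_eq_zero A lam (fun x _ y _ => hlamr x y) (fun x _ => hne x)
      (fun a ha har => hα0 a (hnd a ha har)) hr.pos
    have hB' := dvd_card_of_sum_eq_zero B lam (fun x _ y _ => hlamr x y) (fun x _ => hne x)
      (fun a ha har => hβ0 a (hnd a ha har)) hr.pos
    rw [hcards.1] at hA'
    rw [hcards.2] at hB'
    exact hr.not_dvd_one ((Nat.dvd_add_right hA').1 hB')

theorem SquareData.mem_center_of_odd (D : SquareData p χ b) {z : G} (hz : orderOf z = 2) :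
    ∀ g : G, Commute z g → Odd (orderOf g) → g ∈ Subgroup.center G := by
  intro g
  induction hn : orderOf g using Nat.strong_induction_on generalizing g with
  | _ n ih =>
    intro hzg hodd
    subst hn
    rcases eq_or_ne g 1 with rfl | hg1
    · exact one_mem _
    obtain ⟨r, hr, hrd⟩ := Nat.exists_prime_and_dvd (fun h => hg1 (orderOf_eq_one_iff.1 h))
    have hlt : orderOf (g ^ r) < orderOf g := by
      rw [orderOf_pow' g hr.ne_zero, Nat.gcd_eq_right hrd]
      exact Nat.div_lt_self (orderOf_pos g) hr.one_lt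
    have hgr := ih _ hlt (g ^ r) rfl (hzg.pow_right r) (hodd.of_dvd_nat (orderOf_pow_dvd r))
    exact D.mem_center_of_pow hz hzg hodd hr hgr

/-- The centralizer of an involution has exponent two modulo the centre. -/
theorem SquareData.sq_mem_center (D : SquareData p χ b) {z c : G} (hz : orderOf z = 2)
    (hzc : Commute z c) : c ^ 2 ∈ Subgroup.center G := by
  refine D.mem_center_of_odd hz _ (hzc.pow_right 2) ?_
  by_contra h
  rw [Nat.not_odd_iff_even, even_iff_two_dvd, orderOf_pow' c (by norm_num)] at h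
  by_cases h2 : 2 ∣ orderOf c
  · rw [Nat.gcd_eq_right h2, Nat.dvd_div_iff_mul_dvd h2] at h
    refine D.not_four (c ^ (orderOf c / 4)) ?_
    obtain ⟨m, hm⟩ := h
    have h0 := orderOf_pos c
    rw [hm] at h0 ⊢
    have hm0 : m ≠ 0 := by rintro rfl; simp at h0
    rw [show 2 * 2 * m / 4 = m by omega, orderOf_pow' c hm0, hm, Nat.gcd_eq_right (dvd_mul_left m _),
      Nat.mul_div_cancel _ (Nat.pos_of_ne_zero hm0)]
    rfl
  · rw [Nat.gcd_comm, (Nat.prime_two.coprime_iff_not_dvd.2 h2).gcd_eq_one, Nat.div_one] at h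
    exact h2 h

end Cfsg.Agent.Lib.DegreePSubTwo
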