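import Cfsg.Agent.Lib.Blocks.SmallDegree
import Cfsg.Agent.Lib.CharMisc.CenterSylowDefect

/-!
# The sections of an irreducible character of degree `p - 2`
-/

set_option autoImplicit false
set_option linter.unusedSectionVars false
set_option linter.unusedVariables false
set_option linter.style.haveILetI false

namespace Cfsg.Agent.Lib.DegreePSubTwo

open Cfsg Cfsg.Agent.Lib.Characters Cfsg.Agent.Lib.Blocks
open scoped ComplexConjugate

universe u

variable {G : Type u} [Group G] [Fintype G] {M : Ideal AlgInt} [hMp : M.IsPrime] {p : ℕ}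
  [hp : Fact p.Prime] {P O : Subgroup G} {u : G} [Fintype O]

/-- The sections of an irreducible character of degree `p - 2` in which `u` is not a scalar. -/
theorem sections_p_sub_two [Fintype (Subgroup.centralizer (P : Set G))] (hM : IsPModular p M)
    (S : PrimeSplit p P O u) (χ : IrrCharacter G) (hd : charDegree (χ : G → ℂ) + 2 = p)
    (hns : ∀ z : ℂ, z ^ p = 1 → ¬ ∀ i : ℕ, (χ : G → ℂ) (u ^ i) = (χ : G → ℂ) 1 * z ^ i) :
    ∃ (θ : IrrCharacter O) (t : G) (k : ZMod p), k ≠ 0 ∧ t ∈ Subgroup.normalizer (P : Set G) ∧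
      t * u * t⁻¹ = u⁻¹ ∧ charDegree (θ : O → ℂ) = 1 ∧
      (∀ g ∈ Subgroup.normalizer (P : Set G), g ∈ Subgroup.centralizer (P : Set G) ∨
        t⁻¹ * g ∈ Subgroup.centralizer (P : Set G)) ∧
      (∀ i : ZMod p, i ≠ 0 → ∀ y : O, (χ : G → ℂ) (upow u i * (y : G)) =
        -(ZMod.stdAddChar (i * k) + ZMod.stdAddChar (-(i * k))) * (θ : O → ℂ) y) ∧
      ∀ y : O, (χ : G → ℂ) (y : G) = (charDegree (χ : G → ℂ) : ℂ) * (θ : O → ℂ) y := by
  classical
  haveI := Fintype.ofFinite (IrrCharacter O)
  haveI : NeZero p := ⟨hp.out.ne_zero⟩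
  set d := charDegree (χ : G → ℂ) with hdd
  obtain ⟨θ, j₀, hj₀, hmj⟩ : ∃ (θ : IrrCharacter O) (j : ZMod p), j ≠ 0 ∧ S.secMult θ χ j ≠ 0 := by
    by_contra hcon
    push Not at hcon
    refine hns 1 (one_pow p) fun i => ?_
    rw [one_pow, mul_one]
    refine (mem_charKernel (irr_isCharacter χ)).1 (pow_mem ((mem_charKernel (irr_isCharacter χ)).2 ?_) i)
    have hu1 : upow u (1 : ZMod p) = u := by
      rw [show (1 : ZMod p) = ((1 : ℕ) : ZMod p) by simp, upow_natCast S.pow_u, pow_one]
    have h := S.section_eq_sum χ (1 : ZMod p) 1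
    rw [hu1, OneMemClass.coe_one, mul_one] at h
    rw [h, S.apply_one_eq_sum]
    refine Finset.sum_congr rfl fun η _ => ?_
    congr 1
    rw [S.secCoeff_eq_sum_secMult, S.secCoeff_eq_sum_secMult]
    refine Finset.sum_congr rfl fun j _ => ?_
    by_cases hj : j = 0
    · subst hj; simp
    · simp [hcon η j hj]
  have hsum := S.sum_secMult_le θ χ
  rw [← hdd] at hsum
  have herase : ∑ j, S.secMult θ χ j =
      S.secMult θ χ 0 + ∑ j ∈ (Finset.univ : Finset (ZMod p)).erase 0, S.secMult θ χ j :=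
    (Finset.add_sum_erase _ _ (Finset.mem_univ 0)).symm
  have hce : ((Finset.univ : Finset (ZMod p)).erase 0).card = p - 1 := by
    rw [Finset.card_erase_of_mem (Finset.mem_univ _), Finset.card_univ, ZMod.card]
  have hconst : ∀ δ : ℤ, ¬ ∀ i : ZMod p, i ≠ 0 → secCoeff u (θ : O → ℂ) χ i = (δ : ℂ) := by
    intro δ hf
    have h := Finset.card_nsmul_le_sum ((Finset.univ : Finset (ZMod p)).erase 0)
      (fun j => S.secMult θ χ j) 1 (fun j hj => by
        have h1 := S.secMult_of_const θ χ hf (Finset.mem_erase.1 hj).1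
        have h2 := S.secMult_of_const θ χ hf hj₀
        omega)
    rw [hce, smul_eq_mul, mul_one] at h
    omega
  obtain ⟨B, b, ψ₀, hB, hBP, hb, hψ₀, hres⟩ := S.exists_block_of_theta hM θ
  obtain ⟨hout, hin⟩ := S.defect_one_inputs hM hB hBP hb hψ₀
  rw [hres] at hout hin
  have hχB : χ ∈ B := by
    by_contra hn
    exact hconst 0 fun i hi => by rw [hout χ hn i hi, Int.cast_zero]
  obtain ⟨t, r, n, e, D⟩ := S.exists_stabData θ
  obtain ⟨SX, SY, dX, ε, Y, hBs, hdisj, hSX, hSY, hY, hε, hYY, hX, hYc, -, -, -⟩ :=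
    D.defect_one hM hB hout hin
  rcases (hBs χ).1 hχB with h | h
  · exact absurd (hX χ h).2.1 (hconst (dX χ))
  obtain ⟨k, rfl⟩ := (hY χ).1 h
  set J := Finset.univ.filter (fun j : ZMod p => (j * (k : ZMod p)⁻¹) ^ e = 1) with hJdef
  have hroot : IsPrimitiveRoot ((r : ZMod p) ^ n) e := D.prim_e
  have hJsum : ∀ f : ZMod p → ℂ, ∑ j ∈ J, f j = ∑ x ∈ rootsSet p e, f ((k : ZMod p) * x) := by
    intro f
    refine Finset.sum_bij' (fun j _ => (k : ZMod p)⁻¹ * j) (fun x _ => (k : ZMod p) * x) (fun j hj => ?_)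
      (fun x hx => ?_) (fun j _ => mul_inv_cancel_left₀ k.2 j) (fun x _ => inv_mul_cancel_left₀ k.2 x)
      (fun j _ => by rw [mul_inv_cancel_left₀ k.2])
    · rw [mem_rootsSet, mul_comm]; exact (Finset.mem_filter.1 hj).2
    · refine Finset.mem_filter.2 ⟨Finset.mem_univ _, ?_⟩
      rw [mul_right_comm, mul_inv_cancel₀ k.2, one_mul]
      exact mem_rootsSet.1 hx
  have hJ0 : (0 : ZMod p) ∉ J := by
    intro h0
    have h1 := (Finset.mem_filter.1 h0).2
    rw [zero_mul, zero_pow D.e_pos.ne'] at h1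
    exact zero_ne_one h1
  have hkJ : (k : ZMod p) ∈ J := Finset.mem_filter.2 ⟨Finset.mem_univ _, by rw [mul_inv_cancel₀ k.2, one_pow]⟩
  have hJc : J.card = e := by
    have h1 := hJsum (fun _ => 1)
    simp only [Finset.sum_const, nsmul_one] at h1
    rw [Nat.cast_inj, card_rootsSet D.e_pos hroot] at h1
    exact h1
  have hm : ∀ j, (S.secMult θ (Y k) j : ℤ) = (S.secMult θ (Y k) 0 : ℤ) + if j ∈ J then ε else 0 :=
    S.secMult_of_period θ (Y k) hJ0 (hYc k)
  have hprim : IsPrimitiveRoot (r : ZMod p) (n * e) := D.prim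
  have hne : n * e ∣ p - 1 := hprim.dvd_of_pow_eq_one _
    (ZMod.pow_card_sub_one_eq_one (hprim.ne_zero (Nat.mul_pos D.n_pos D.e_pos).ne'))
  have hele : e ≤ p - 1 := Nat.le_of_dvd (by omega) D.e_dvd
  have hsumif : ∀ c : ℤ, ∑ j : ZMod p, ((c + if j ∈ J then ε else 0 : ℤ)) = p * c + e * ε := by
    intro c
    rw [Finset.sum_add_distrib, Finset.sum_const, Finset.card_univ, ZMod.card, Finset.sum_ite_mem,
      Finset.univ_inter, Finset.sum_const, hJc, nsmul_eq_mul, nsmul_eq_mul]
  have htot : ((∑ j, S.secMult θ (Y k) j : ℕ) : ℤ) = p * (S.secMult θ (Y k) 0 : ℤ) + e * ε := by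
    rw [Nat.cast_sum, ← hsumif]
    exact Finset.sum_congr rfl fun j _ => hm j
  have hother : ∀ η : IrrCharacter O, η ∉ (Finset.range n).image D.conjTheta →
      ∀ i : ZMod p, secCoeff u (η : O → ℂ) (Y k) i = 0 := by
    intro η hη i
    have hz : ∀ i : ZMod p, i ≠ 0 → secCoeff u (η : O → ℂ) (Y k) i = 0 := by
      refine fun i hi => hin _ hχB η (fun g hg => ?_) i hi
      by_contra hcon
      push Not at hcon
      obtain ⟨s, hs, hgs⟩ := D.exists_orbit hg
      exact hη (Finset.mem_image.2 ⟨s, Finset.mem_range.2 hs,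
        Subtype.ext (funext fun y => ((hcon y).trans (hgs y)).symm)⟩)
    have hconst' : ∀ j, S.secMult η (Y k) j = S.secMult η (Y k) 0 := by
      intro j
      by_cases hj : j = 0
      · rw [hj]
      · have := S.secMult_of_const η (Y k) (δ := 0) (fun i hi => by rw [hz i hi, Int.cast_zero]) hj
        omega
    have hsum' := S.sum_secMult_le η (Y k)
    rw [Finset.sum_congr rfl fun j _ => hconst' j, Finset.sum_const, Finset.card_univ, ZMod.card, smul_eq_mul,
      ← hdd] at hsum'
    have h0 : S.secMult η (Y k) 0 = 0 := by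
      by_contra h0
      have := Nat.le_mul_of_pos_right p (Nat.pos_of_ne_zero h0)
      omega
    rw [S.secCoeff_eq_sum_secMult]
    exact Finset.sum_eq_zero fun j _ => by rw [hconst' j, h0, Nat.cast_zero, zero_mul]
  have hroots := card_rootsSet D.e_pos hroot
  set T := ∑ j, S.secMult θ (Y k) j with hT
  have hconj0 : ∀ a : ℕ, secCoeff u (D.conjTheta a : O → ℂ) (Y k) (0 : ZMod p) = (T : ℂ) := by
    intro a
    have h := S.secCoeff_conj ((Subgroup.normalizer (P : Set G)).pow_mem D.t_mem a) (D.conj_pow a 0) θ (Y k)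
    rw [mul_zero] at h
    rw [hT, ← S.secCoeff_zero_eq]
    exact h
  have hθa : ∀ a, (D.conjTheta a : O → ℂ) 1 = (θ : O → ℂ) 1 := fun a => by
    show (θ : O → ℂ) ⟨t ^ a * ((1 : O) : G) * (t ^ a)⁻¹, _⟩ = _
    exact congrArg (θ : O → ℂ) (Subtype.ext (by simp))
  have hdeg : n * charDegree (θ : O → ℂ) * T = d := by
    refine Nat.cast_injective (R := ℂ) ?_
    rw [hdd, charDegree_eq (Y k), S.apply_one_eq_sum,
      ← Finset.sum_subset (Finset.subset_univ ((Finset.range n).image D.conjTheta))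
        (fun η _ hη => by rw [hother η hη, zero_mul]), Finset.sum_image D.conjTheta_injOn,
      Finset.sum_congr rfl fun a _ => show _ = (T : ℂ) * (θ : O → ℂ) 1 by rw [hconj0, hθa],
      Finset.sum_const, Finset.card_range, nsmul_eq_mul, ← charDegree_eq θ]
    push_cast
    ring
  obtain ⟨hεm, hn1, he2, hθ1⟩ : (ε = -1 ∧ S.secMult θ (Y k) 0 = 1) ∧ n = 1 ∧ e = 2 ∧
      charDegree (θ : O → ℂ) = 1 := by
    rcases hε with h1 | h1
    · exfalso
      rw [h1] at htot hm
      have hm0 : S.secMult θ (Y k) 0 = 0 := by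
        by_contra h0
        have : (p : ℤ) ≤ p * (S.secMult θ (Y k) 0 : ℤ) :=
          le_mul_of_one_le_right (by positivity) (by omega)
        omega
      have hTe : T = e := by rw [hm0] at htot; omega
      rw [hTe] at hdeg
      have h2 : n * e ∣ d := ⟨charDegree (θ : O → ℂ), by rw [← hdeg]; ring⟩
      have h3 : n * e = 1 := by
        refine Nat.eq_one_of_dvd_coprimes ?_ hne h2
        rw [show p - 1 = d + 1 by omega]
        exact Nat.coprime_self_add_left.2 (Nat.coprime_one_left d) |> fun h => by simpa using h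
      obtain ⟨hn, he⟩ := mul_eq_one.1 h3
      subst hn
      refine hns (ZMod.stdAddChar (k : ZMod p)) (by
        rw [← AddChar.map_nsmul_eq_pow, nsmul_eq_mul, ZMod.natCast_self, zero_mul, AddChar.map_zero_eq_one])
        fun i => ?_
      have hJk : J = {(k : ZMod p)} := by
        refine (Finset.eq_of_subset_of_card_le (Finset.singleton_subset_iff.2 hkJ) ?_).symm
        rw [hJc, he, Finset.card_singleton]
      have hc : secCoeff u (θ : O → ℂ) (Y k) (i : ZMod p) = ZMod.stdAddChar ((i : ZMod p) * (k : ZMod p)) := by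
        rw [S.secCoeff_eq_sum_secMult, Finset.sum_eq_single (k : ZMod p)]
        · rw [show S.secMult θ (Y k) k = 1 by
            have := hm k
            rw [if_pos hkJ, hm0] at this
            omega, Nat.cast_one, one_mul]
        · intro j _ hj
          rw [show S.secMult θ (Y k) j = 0 by
            have := hm j
            rw [if_neg (by rw [hJk]; simpa using hj), hm0] at this
            omega, Nat.cast_zero, zero_mul]
        · simp
      have h := S.section_eq_sum (Y k) (i : ZMod p) 1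
      rw [OneMemClass.coe_one, mul_one, upow_natCast S.pow_u] at h
      rw [h, ← Finset.sum_subset (Finset.subset_univ ((Finset.range 1).image D.conjTheta))
        (fun η _ hη => by rw [hother η hη, zero_mul]), Finset.sum_image D.conjTheta_injOn,
        Finset.sum_range_one, hθa]
      have h0 : D.conjTheta 0 = θ := Subtype.ext (funext fun z => by
        show (θ : O → ℂ) ⟨t ^ 0 * (z : G) * (t ^ 0)⁻¹, _⟩ = _
        exact congrArg (θ : O → ℂ) (Subtype.ext (by simp)))
      rw [h0, hc, ← AddChar.map_nsmul_eq_pow, nsmul_eq_mul, mul_comm, ← charDegree_eq θ,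
        ← charDegree_eq (Y k), ← hdd]
      congr 1
      rw [← hdeg, he]
      push_cast
      ring
    · rw [h1] at htot hm
      have hk := hm k
      rw [if_pos hkJ] at hk
      have hm1 : S.secMult θ (Y k) 0 = 1 := by
        by_contra h0
        have : (2 * p : ℤ) ≤ p * (S.secMult θ (Y k) 0 : ℤ) := by
          have : (2 : ℤ) ≤ (S.secMult θ (Y k) 0 : ℤ) := by omega
          nlinarith
        omega
      have hTe : (T : ℤ) = p - e := by rw [hm1] at htot; push_cast at htot; omega
      have he1 : e ≠ p - 1 := by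
        intro he
        refine hmj ?_
        have hj := hm j₀
        rw [if_pos ?_, hm1] at hj
        · omega
        have hall : J = (Finset.univ : Finset (ZMod p)).erase 0 :=
          Finset.eq_of_subset_of_card_le
            (fun j (hj : j ∈ J) => Finset.mem_erase.2 ⟨fun h0 : j = 0 => hJ0 (h0 ▸ hj), Finset.mem_univ _⟩)
            (by rw [hce, hJc, he])
        rw [hall]
        exact Finset.mem_erase.2 ⟨hj₀, Finset.mem_univ _⟩
      have h2e : 2 * e ≤ p - 1 := by
        obtain ⟨w, hw⟩ := D.e_dvd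
        rcases w with _ | _ | w
        · omega
        · omega
        · rw [hw]; calc 2 * e = e * 2 := mul_comm _ _
            _ ≤ e * (w + 1 + 1) := Nat.mul_le_mul_left e (by omega)
      have hnθ : n * charDegree (θ : O → ℂ) = 1 := by
        have h0 : 0 < n * charDegree (θ : O → ℂ) := Nat.mul_pos D.n_pos (charDegree_pos θ)
        by_contra h
        have : 2 * T ≤ d := by rw [← hdeg]; exact Nat.mul_le_mul_right T (by omega)
        omega
      rw [hnθ, one_mul] at hdeg
      exact ⟨⟨h1, hm1⟩, (mul_eq_one.1 hnθ).1, by omega, (mul_eq_one.1 hnθ).2⟩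
  obtain ⟨hεm, hm1⟩ := hεm
  rw [hεm] at htot hm
  subst hn1
  rw [he2, one_mul] at hprim
  have hr : (r : ZMod p) = -1 := hprim.eq_neg_one_of_two_right
  have htu : t * u * t⁻¹ = u⁻¹ := by
    rw [D.conj_u, ← upow_natCast S.pow_u, hr, eq_inv_iff_mul_eq_one]
    conv_lhs => arg 2; rw [← pow_one u, ← upow_natCast S.pow_u]
    rw [← upow_add S.pow_u, Nat.cast_one, neg_add_cancel, upow_zero]
  have hTd : T = d := by rw [hθ1, one_mul, one_mul] at hdeg; exact hdeg
  have hc : ∀ i : ZMod p, i ≠ 0 → secCoeff u (θ : O → ℂ) (Y k) i =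
      -(ZMod.stdAddChar (i * (k : ZMod p)) + ZMod.stdAddChar (-(i * (k : ZMod p)))) := by
    intro i hi
    rw [hYc k i hi, hεm, Int.cast_neg, Int.cast_one, neg_one_mul, hJsum]
    have hp2 : (1 : ZMod p) ≠ -1 := by
      rw [← hr]
      intro h
      exact absurd (hprim.pow_eq_one_iff_dvd 1) (by rw [pow_one, ← h]; simp)
    rw [show rootsSet p e = {1, -1} by
      ext x; simp [mem_rootsSet, he2], Finset.sum_pair hp2]
    congr 2 <;> ring_nf
  have hsec : ∀ (i : ZMod p) (y : O), (Y k : G → ℂ) (upow u i * (y : G)) =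
      secCoeff u (θ : O → ℂ) (Y k) i * (θ : O → ℂ) y := by
    intro i y
    rw [S.section_eq_sum, ← Finset.sum_subset (Finset.subset_univ ((Finset.range 1).image D.conjTheta))
      (fun η _ hη => by rw [hother η hη, zero_mul]), Finset.sum_image D.conjTheta_injOn,
      Finset.sum_range_one]
    have h0 : D.conjTheta 0 = θ := Subtype.ext (funext fun z => by
      show (θ : O → ℂ) ⟨t ^ 0 * (z : G) * (t ^ 0)⁻¹, _⟩ = _
      exact congrArg (θ : O → ℂ) (Subtype.ext (by simp)))
    rw [h0]
  refine ⟨θ, t, k, k.2, D.t_mem, htu, hθ1, fun g hg => ?_, fun i hi y => by rw [hsec, hc i hi], fun y => ?_⟩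
  · obtain ⟨s, hs⟩ := D.gen g hg
    have ht2 : t ^ 2 ∈ Subgroup.centralizer (P : Set G) := by
      refine Subgroup.mem_centralizer_iff.2 fun a ha => ?_
      obtain ⟨i, rfl⟩ := exists_upow_eq S.card_P S.mem S.ne_one ha
      have h := D.conj_pow 2 i
      rw [hr, neg_one_sq, one_mul, mul_inv_eq_iff_eq_mul] at h
      exact h.symm
    have hpw : ∀ q : ℕ, (t ^ 2) ^ q ∈ Subgroup.centralizer (P : Set G) := fun q => pow_mem ht2 q
    rcases Nat.even_or_odd' s with ⟨q, rfl | rfl⟩
    · left
      have := mul_mem (hpw q) hs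
      rwa [← pow_mul, mul_inv_cancel_left] at this
    · right
      have := mul_mem (hpw q) hs
      rwa [show (t ^ 2) ^ q * ((t ^ (2 * q + 1))⁻¹ * g) = t⁻¹ * g by group] at this
  · have h := hsec 0 y
    rw [upow_zero, one_mul, S.secCoeff_zero_eq, ← hT, hTd] at h
    exact h

end Cfsg.Agent.Lib.DegreePSubTwo
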