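import Cfsg.Agent.Lib.DegreePSubTwo.Centre
import Cfsg.Agent.Lib.DegreePSubTwo.AltSquare
import Cfsg.Agent.Lib.InvChar.GaloisChar

/-!
# The alternating square of a faithful character of degree `p - 2` of a perfect group
-/

set_option autoImplicit false
set_option linter.unusedSectionVars false
set_option linter.style.haveILetI false

namespace Cfsg.Agent.Lib.DegreePSubTwo

open Cfsg Cfsg.Agent.Lib.Characters Cfsg.Agent.Lib.Blocks
open scoped ComplexConjugate

universe u

variable {G : Type u} [Group G] [Fintype G] {p : ℕ} [hp : Fact p.Prime]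
  {χ : IrrCharacter G} {P : Subgroup G} {u t : G} {k : ZMod p}

theorem Data.center_odd (D : Data p χ P u t k) (hperf : commutator G = ⊤) :
    ∀ z ∈ Subgroup.center G, Odd (orderOf z) := by
  intro z hz
  refine Odd.of_dvd_nat (n := p - 2) ?_ (orderOf_dvd_of_pow_eq_one (D.center_pow hperf hz))
  have h5 := D.five
  obtain ⟨q, hq⟩ := hp.out.odd_of_ne_two (by omega)
  exact ⟨q - 1, by omega⟩

theorem alpha_sq (x : ZMod p) : alpha x * alpha x = alpha (2 * x) + 2 := by
  haveI : NeZero p := ⟨hp.out.ne_zero⟩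
  have h1 : ZMod.stdAddChar x * ZMod.stdAddChar (-x) = (1 : ℂ) := by
    rw [← AddChar.map_add_eq_mul, add_neg_cancel, AddChar.map_zero_eq_one]
  have h2 : (ZMod.stdAddChar (2 * x) : ℂ) = ZMod.stdAddChar x * ZMod.stdAddChar x := by
    rw [← AddChar.map_add_eq_mul, two_mul]
  have h3 : (ZMod.stdAddChar (-(2 * x)) : ℂ) = ZMod.stdAddChar (-x) * ZMod.stdAddChar (-x) := by
    rw [← AddChar.map_add_eq_mul, ← neg_add, two_mul]
  rw [alpha, alpha, h2, h3]
  linear_combination 2 * h1

theorem sum_alpha {i : ZMod p} (hi : i ≠ 0) [NeZero p] :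
    ∑ l ∈ (Finset.univ : Finset (ZMod p)).erase 0, alpha (l * i) = -2 := by
  simp only [alpha, Finset.sum_add_distrib, ← mul_neg]
  rw [sum_units_stdAddChar hi, sum_units_stdAddChar (neg_ne_zero.2 hi)]
  norm_num

/-- **The alternating square.**  In a perfect group the square of the character is known on the
`p`-regular elements. -/
theorem Data.exists_square (D : Data p χ P u t k) (hperf : commutator G = ⊤) :
    ∃ b : ℕ, b % 4 = 1 ∧ (∀ g : G, ¬ p ∣ orderOf g → Nat.Coprime b (orderOf g)) ∧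
      ∀ g : G, ¬ p ∣ orderOf g → (χ : G → ℂ) g * (χ : G → ℂ) g - (χ : G → ℂ) (g * g) =
        ((p : ℂ) - 3) * (χ : G → ℂ) (g ^ b) := by
  classical
  haveI : NeZero p := ⟨hp.out.ne_zero⟩
  haveI := Fintype.ofFinite (IrrCharacter G)
  have h5 := D.five
  have hd : charDegree (χ : G → ℂ) = p - 2 := by have := D.deg; omega
  have hup : u ^ p = 1 := by rw [← D.order_u]; exact pow_orderOf_eq_one u
  have hp2 : p % 2 = 1 := Nat.odd_iff.1 (hp.out.odd_of_ne_two (by omega))
  obtain ⟨m, hm⟩ : p ∣ Nat.card G := D.card_P ▸ Subgroup.card_subgroup_dvd_card P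
  have hpm : ¬ p ∣ m := fun hd' => D.sq (by rw [hm, pow_two]; exact Nat.mul_dvd_mul_left p hd')
  have hm0 : m ≠ 0 := fun h => hpm (h ▸ dvd_zero p)
  have hreg : ∀ g : G, ¬ p ∣ orderOf g → orderOf g ∣ m := fun g hg =>
    (hp.out.coprime_iff_not_dvd.2 hg).symm.dvd_of_dvd_mul_left (hm ▸ orderOf_dvd_natCard g)
  -- the exponent
  have h4c : Nat.Coprime 4 (p - 2) := by
    rw [show (4 : ℕ) = 2 ^ 2 by norm_num]
    exact ((Nat.prime_two.coprime_iff_not_dvd).2 (by omega)).pow_left 2
  obtain ⟨x, hx1, hx2⟩ := Nat.chineseRemainder h4c 1 2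
  have hxc : Nat.Coprime x (4 * (p - 2)) := by
    refine Nat.Coprime.mul_right ?_ ?_
    · rw [Nat.Coprime, hx1.gcd_eq, Nat.gcd_one_left]
    · rw [Nat.Coprime, hx2.gcd_eq]
      exact Nat.prime_two.coprime_iff_not_dvd.2 (by omega)
  haveI : NeZero (4 * (p - 2) * m) := ⟨Nat.mul_ne_zero (by omega) hm0⟩
  obtain ⟨w, hw⟩ := ZMod.unitsMap_surjective (n := 4 * (p - 2)) (m := 4 * (p - 2) * m)
    (dvd_mul_right _ _) (ZMod.unitOfCoprime x hxc)
  set b := (w : ZMod (4 * (p - 2) * m)).val with hb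
  have hbc : Nat.Coprime b (4 * (p - 2) * m) := ZMod.val_coe_unit_coprime w
  have hbx : b ≡ x [MOD 4 * (p - 2)] := by
    rw [← ZMod.natCast_eq_natCast_iff]
    have h := congrArg Units.val hw
    rw [ZMod.unitsMap_val, ZMod.coe_unitOfCoprime, ← ZMod.natCast_val] at h
    exact h
  have hb4 : b % 4 = 1 := (hbx.of_dvd (dvd_mul_right _ _)).trans hx1
  have hb2 : b ≡ 2 [MOD p - 2] := (hbx.of_dvd (dvd_mul_left _ _)).trans hx2
  have hbm : Nat.Coprime b m := hbc.coprime_dvd_right (dvd_mul_left _ _)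
  refine ⟨b, hb4, fun g hg => hbm.coprime_dvd_right (hreg g hg), ?_⟩
  -- the conjugate characters
  have hpmc : Nat.Coprime p m := hp.out.coprime_iff_not_dvd.2 hpm
  let B : ZMod p → ℕ := fun l => (Nat.chineseRemainder hpmc (l * k⁻¹).val b).1
  have hB1 : ∀ l, ((B l : ℕ) : ZMod p) = l * k⁻¹ := fun l => by
    rw [(ZMod.natCast_eq_natCast_iff _ _ _).2 (Nat.chineseRemainder hpmc (l * k⁻¹).val b).2.1,
      ZMod.natCast_zmod_val]
  have hB2 : ∀ l, B l ≡ b [MOD m] := fun l => (Nat.chineseRemainder hpmc (l * k⁻¹).val b).2.2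
  have hBc : ∀ l, l ≠ 0 → Nat.Coprime (B l) (Nat.card G) := by
    intro l hl
    rw [hm]
    refine Nat.Coprime.mul_right ?_ ?_
    · rw [Nat.coprime_comm, hp.out.coprime_iff_not_dvd, ← ZMod.natCast_eq_zero_iff, hB1]
      exact mul_ne_zero hl (inv_ne_zero D.k_ne)
    · rw [Nat.Coprime, (hB2 l).gcd_eq]
      exact hbm
  let ψ : ZMod p → IrrCharacter G := fun l => if h : l = 0 then χ else
    ⟨fun g => (χ : G → ℂ) (g ^ B l), InvChar.isIrr_comp_pow χ.2 (hBc l h)⟩
  have hψ : ∀ l, l ≠ 0 → ∀ g, (ψ l : G → ℂ) g = (χ : G → ℂ) (g ^ B l) := fun l hl g => by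
    simp only [ψ, dif_neg hl]
  have hψreg : ∀ l, l ≠ 0 → ∀ g, ¬ p ∣ orderOf g → (ψ l : G → ℂ) g = (χ : G → ℂ) (g ^ b) := by
    intro l hl g hg
    rw [hψ l hl, pow_eq_pow_iff_modEq.2 ((hB2 l).of_dvd (hreg g hg))]
  have hcentre : ∀ z ∈ Subgroup.center G, ∀ l, z ^ B l = z * z := by
    intro z hz l
    have h1 : orderOf z ∣ p - 2 := orderOf_dvd_of_pow_eq_one (D.center_pow hperf hz)
    rw [← pow_two, pow_eq_pow_iff_modEq]
    exact ((hB2 l).of_dvd (hreg z (D.central_regular z hz))).trans (hb2.of_dvd h1)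
  have hval : ∀ l, l ≠ 0 → ∀ i, i ≠ 0 → ∀ z ∈ Subgroup.center G,
      (ψ l : G → ℂ) (upow u i * z) =
        -alpha (l * i) * (cval (χ : G → ℂ) z * cval (χ : G → ℂ) z) := by
    intro l hl i hi z hz
    rw [hψ l hl, (show Commute (upow u i) z from Subgroup.mem_center_iff.1 hz _).mul_pow,
      ← upow_mul_natCast hup, hcentre z hz, hB1,
      D.value _ (mul_ne_zero (mul_ne_zero hl (inv_ne_zero D.k_ne)) hi) _ (mul_mem hz hz),
      cval_mul χ.2 hz]
    congr 3
    have := D.k_ne
    field_simp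
  have hui : ∀ i : ZMod p, i ≠ 0 → p ∣ orderOf (upow u i * (1 : G)) := by
    intro i hi
    rw [mul_one, orderOf_eq_prime (p := p) ?_ (fun h => hi ((upow_eq_one_iff D.order_u i).1 h))]
    rw [upow, ← pow_mul, mul_comm, pow_mul, hup, one_pow]
  have hcv1 : cval (χ : G → ℂ) 1 = 1 := div_self (IsIrrCharacter.apply_one_ne_zero χ.2)
  have hψeq : ∀ l l', l ≠ 0 → l' ≠ 0 → (ψ l = ψ l' ↔ (l = l' ∨ l = -l')) := by
    intro l l' hl hl'
    constructor
    · intro h
      have h2 : (l * l'⁻¹) ^ 2 = 1 := by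
        refine period_eq_imp hl hl' fun w => ?_
        by_cases hw : w = 0
        · subst hw; simp
        have h1 := congrFun (congrArg (fun f : IrrCharacter G => (f : G → ℂ)) h) (upow u w * 1)
        rw [hval l hl w hw 1 (one_mem _), hval l' hl' w hw 1 (one_mem _), hcv1, one_mul, mul_one,
          mul_one, neg_inj] at h1
        have hpair : ∀ z : ZMod p, ∑ x ∈ rootsSet p 2, ZMod.stdAddChar (z * x) = alpha z := by
          intro z
          have hne : (1 : ZMod p) ≠ -1 := by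
            intro h
            have h' : ((2 : ℕ) : ZMod p) = 0 := by push_cast; linear_combination h
            rw [ZMod.natCast_eq_zero_iff] at h'
            exact absurd (Nat.le_of_dvd (by norm_num) h') (by omega)
          rw [show rootsSet p 2 = {1, -1} by ext x; simp [mem_rootsSet], Finset.sum_pair hne,
            alpha, mul_one, mul_neg_one]
        rw [hpair, hpair]
        exact h1
      rcases sq_eq_one_iff.1 h2 with h3 | h3
      · left; rw [mul_inv_eq_one₀ hl'] at h3; exact h3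
      · right
        rw [mul_inv_eq_iff_eq_mul₀ hl', neg_one_mul] at h3
        exact h3
    · rintro (rfl | rfl)
      · rfl
      · refine Subtype.ext (funext fun g => ?_)
        by_cases hg : p ∣ orderOf g
        · obtain ⟨c, i, z, hi, hz, hc⟩ := D.singular g hg
          rw [← irr_isClassFunction (ψ (-l')) g c, hc, ← irr_isClassFunction (ψ l') g c, hc,
            hval _ hl i hi z hz, hval _ hl' i hi z hz, alpha, alpha, neg_mul (l' : ZMod p) i, neg_neg,
            add_comm (ZMod.stdAddChar (-(l' * i)))]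
        · rw [hψreg _ hl g hg, hψreg _ hl' g hg]
  set E := (Finset.univ : Finset (ZMod p)).erase 0 with hE
  have hEc : E.card = p - 1 := by
    rw [hE, Finset.card_erase_of_mem (Finset.mem_univ _), Finset.card_univ, ZMod.card]
  have hfib : ∀ φ ∈ E.image ψ, (E.filter fun l => ψ l = φ).card = 2 := by
    intro φ hφ
    obtain ⟨l, hl, rfl⟩ := Finset.mem_image.1 hφ
    have hl0 : l ≠ 0 := (Finset.mem_erase.1 hl).1
    have hne : l ≠ -l := by
      intro h
      have h' : ((2 : ℕ) : ZMod p) * l = 0 := by push_cast; linear_combination h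
      have h'' := (mul_eq_zero.1 h').resolve_right hl0
      rw [ZMod.natCast_eq_zero_iff] at h''
      exact absurd (Nat.le_of_dvd (by norm_num) h'') (by omega)
    rw [show (E.filter fun l' => ψ l' = ψ l) = {l, -l} by
      ext l'
      simp only [hE, Finset.mem_filter, Finset.mem_erase, Finset.mem_univ, and_true,
        Finset.mem_insert, Finset.mem_singleton]
      constructor
      · exact fun ⟨h, h'⟩ => (hψeq l' l h hl0).1 h'
      · intro h
        have h' : l' ≠ 0 := by rcases h with rfl | rfl <;> simpa using hl0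
        exact ⟨h', (hψeq l' l h' hl0).2 h⟩, Finset.card_pair hne]
  have hsumE : ∀ g : G, ∑ l ∈ E, (ψ l : G → ℂ) g = 2 * ∑ φ ∈ E.image ψ, (φ : G → ℂ) g := by
    intro g
    rw [Finset.sum_comp (fun φ : IrrCharacter G => (φ : G → ℂ) g) ψ, Finset.mul_sum]
    refine Finset.sum_congr rfl fun φ hφ => ?_
    rw [hfib φ hφ, two_smul, two_mul]
  have hΨc : 2 * (E.image ψ).card = p - 1 := by
    rw [← hEc, Finset.card_eq_sum_card_image ψ E, Finset.sum_congr rfl hfib, Finset.sum_const,
      smul_eq_mul, mul_comm]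
  have hk2 : (2 : ZMod p) * k ≠ 0 := by
    refine mul_ne_zero ?_ D.k_ne
    rw [show (2 : ZMod p) = ((2 : ℕ) : ZMod p) by norm_num, Ne, ZMod.natCast_eq_zero_iff]
    exact fun h => absurd (Nat.le_of_dvd (by norm_num) h) (by omega)
  set L : ZMod p := 2 * k with hL
  have hLmem : ψ L ∈ E.image ψ := Finset.mem_image_of_mem _ (Finset.mem_erase.2 ⟨hk2, Finset.mem_univ _⟩)
  set Ψ := (E.image ψ).erase (ψ L) with hΨ
  let Λ : G → ℂ := fun g => ((χ : G → ℂ) g * (χ : G → ℂ) g - (χ : G → ℂ) (g * g)) / 2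
  have hΛ : IsCharacter G Λ := isCharacter_altSquare (irr_isCharacter χ)
  let S : G → ℂ := fun g => ∑ φ ∈ Ψ, (φ : G → ℂ) g
  have hS : ∀ g, 2 * S g = (∑ l ∈ E, (ψ l : G → ℂ) g) - 2 * (ψ L : G → ℂ) g := by
    intro g
    rw [hsumE, ← mul_sub]
    congr 1
    rw [← Finset.add_sum_erase _ _ hLmem, add_sub_cancel_left]
  have hsing : ∀ g, p ∣ orderOf g → Λ g = S g := by
    intro g hg
    obtain ⟨c, i, z, hi, hz, hc⟩ := D.singular g hg
    have hSc : S (c * g * c⁻¹) = S g :=
      Finset.sum_congr rfl fun φ _ => irr_isClassFunction φ g c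
    rw [← IsCharacter.isClassFunction hΛ g c, ← hSc, hc]
    have hsq : upow u i * z * (upow u i * z) = upow u (2 * i) * (z * z) := by
      rw [mul_assoc, ← mul_assoc z, ← Subgroup.mem_center_iff.1 hz (upow u i), mul_assoc (upow u i),
        ← mul_assoc, ← upow_add hup, two_mul]
    have h2i : 2 * i ≠ 0 := mul_ne_zero (fun h => hk2 (by rw [hL, h, zero_mul])) hi
    have hΛv : 2 * Λ (upow u i * z) =
        (cval (χ : G → ℂ) z * cval (χ : G → ℂ) z) * (alpha (i * k) * alpha (i * k) + alpha (2 * (i * k))) := by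
      simp only [Λ]
      rw [hsq, D.value i hi z hz, D.value _ h2i _ (mul_mem hz hz), cval_mul χ.2 hz,
        mul_assoc (2 : ZMod p) i k]
      ring
    refine mul_left_cancel₀ (two_ne_zero : (2 : ℂ) ≠ 0) ?_
    rw [hΛv, hS, hval L hk2 i hi z hz, Finset.sum_congr rfl fun l hl =>
      hval l (Finset.mem_erase.1 hl).1 i hi z hz, ← Finset.sum_mul, Finset.sum_neg_distrib,
      sum_alpha hi, alpha_sq, hL, mul_assoc (2 : ZMod p) k i, mul_comm k i]
    ring
  obtain ⟨a, ha, ha'⟩ := IsCharacter.exists_nat_decomp hΛ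
  have hinner : ∀ φ : IrrCharacter G, classInner (Λ - S) (φ : G → ℂ) =
      (a φ : ℂ) - if φ ∈ Ψ then 1 else 0 := by
    intro φ
    rw [classInner_sub_left, ha']
    congr 1
    rw [show classInner S (φ : G → ℂ) = ∑ φ' ∈ Ψ, classInner (φ' : G → ℂ) (φ : G → ℂ) by
      simp only [classInner, S, Finset.sum_mul, ← Finset.mul_sum]
      rw [Finset.sum_comm]]
    rw [← Finset.sum_ite_eq' Ψ φ (fun _ => (1 : ℂ))]
    refine Finset.sum_congr rfl fun φ' _ => ?_
    split_ifs with h
    · subst h; exact IsIrrCharacter.classInner_self φ'.2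
    · exact IsIrrCharacter.classInner_ne φ'.2 φ.2 fun h' => h (Subtype.ext h')
  have hmult : ∀ φ ∈ Ψ, 1 ≤ a φ := by
    intro φ hφ
    obtain ⟨hne, hmem⟩ := Finset.mem_erase.1 hφ
    obtain ⟨l, hl, rfl⟩ := Finset.mem_image.1 hmem
    have h1 : classInner (Λ - S) (ψ l : G → ℂ) = classInner (Λ - S) (ψ L : G → ℂ) := by
      simp only [classInner]
      congr 1
      refine Finset.sum_congr rfl fun g _ => ?_
      by_cases hg : p ∣ orderOf g
      · rw [Pi.sub_apply, hsing g hg, sub_self, zero_mul, zero_mul]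
      · rw [hψreg l (Finset.mem_erase.1 hl).1 g hg, hψreg L hk2 g hg]
    rw [hinner, hinner, if_pos hφ, if_neg (Finset.notMem_erase _ _), sub_zero] at h1
    have h2 : ((a (ψ l) : ℤ) : ℂ) = (((a (ψ L) : ℤ) + 1 : ℤ) : ℂ) := by
      push_cast; linear_combination h1
    have h3 := Int.cast_injective h2
    omega
  have hψdeg : ∀ φ ∈ Ψ, charDegree (φ : G → ℂ) = p - 2 := by
    intro φ hφ
    obtain ⟨l, hl, rfl⟩ := Finset.mem_image.1 (Finset.mem_erase.1 hφ).2
    refine Nat.cast_injective (R := ℂ) ?_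
    rw [charDegree_eq, hψ l (Finset.mem_erase.1 hl).1, one_pow, ← charDegree_eq, hd]
  have hΨ1 : 2 * Ψ.card + 3 = p := by
    rw [hΨ, Finset.card_erase_of_mem hLmem]
    omega
  have hS1 : S 1 = ((Ψ.card * (p - 2) : ℕ) : ℂ) := by
    rw [Nat.cast_mul, ← nsmul_eq_mul, ← Finset.sum_const]
    exact Finset.sum_congr rfl fun φ hφ => by rw [← charDegree_eq, hψdeg φ hφ]
  have hΛ1 : Λ 1 = S 1 := by
    rw [hS1]
    simp only [Λ, mul_one]
    rw [← charDegree_eq, hd]
    have h2 : ((p - 2 : ℕ) : ℂ) = 2 * (Ψ.card : ℂ) + 1 := by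
      rw [show p - 2 = 2 * Ψ.card + 1 by omega]; push_cast; ring
    push_cast
    rw [h2]
    ring
  have hzero : ∀ φ : IrrCharacter G, a φ = if φ ∈ Ψ then 1 else 0 := by
    have htot : ∑ φ, a φ * charDegree (φ : G → ℂ) = ∑ φ, (if φ ∈ Ψ then 1 else 0) * charDegree (φ : G → ℂ) := by
      refine Nat.cast_injective (R := ℂ) ?_
      simp only [ite_mul, one_mul, zero_mul, Finset.sum_ite_mem, Finset.univ_inter, Nat.cast_sum,
        charDegree_eq, Nat.cast_mul]
      refine Eq.trans ?_ hΛ1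
      rw [ha, Finset.sum_apply]
      simp [Pi.smul_apply, smul_eq_mul]
    have hle : ∀ φ ∈ (Finset.univ : Finset (IrrCharacter G)),
        (if φ ∈ Ψ then 1 else 0) * charDegree (φ : G → ℂ) ≤ a φ * charDegree (φ : G → ℂ) := by
      intro φ _
      refine Nat.mul_le_mul_right _ ?_
      split_ifs with h
      · exact hmult φ h
      · exact Nat.zero_le _
    intro φ
    exact Nat.eq_of_mul_eq_mul_right (charDegree_pos φ)
      ((Finset.sum_eq_sum_iff_of_le hle).1 htot.symm φ (Finset.mem_univ _)).symm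
  intro g hg
  have hΛS : Λ g = S g := by
    rw [ha, Finset.sum_apply]
    simp only [Pi.smul_apply, smul_eq_mul, hzero, Nat.cast_ite, Nat.cast_one, Nat.cast_zero, ite_mul,
      one_mul, zero_mul, Finset.sum_ite_mem, Finset.univ_inter]
    rfl
  have hSg : S g = (Ψ.card : ℂ) * (χ : G → ℂ) (g ^ b) := by
    rw [← nsmul_eq_mul, ← Finset.sum_const]
    refine Finset.sum_congr rfl fun φ hφ => ?_
    obtain ⟨l, hl, rfl⟩ := Finset.mem_image.1 (Finset.mem_erase.1 hφ).2
    exact hψreg l (Finset.mem_erase.1 hl).1 g hg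
  rw [show ((p : ℂ) - 3) = 2 * (Ψ.card : ℂ) by
    rw [← hΨ1]; push_cast; ring, mul_assoc, ← hSg, ← hΛS]
  simp only [Λ]
  ring

end Cfsg.Agent.Lib.DegreePSubTwo
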